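import Mathlib
import Cfsg.Agent.Lib.H4.Dickson.ClassEq

/-!
# The class equation in characteristic two

Abstract numeric core of Dickson's analysis for subgroups of `SL₂(2ⁿ)`: a finite group with abelian
centralizers of nontrivial elements, a "unipotent" class `cl y` (with `|C(y)| = q` even,
`|N(C(y))| = q k`, and `q ∣ |G : N(C(y))| - 1`), all other classes of "torus type". Then either
`q = 2` and the group is of dihedral type, or `|G : N(C(y))| = 1 + q` and `k = q - 1`.
-/

set_option autoImplicit false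

namespace Cfsg.Agent.Lib.H5.DicksonTwo

open Cfsg.Agent.Lib.H4.Dickson

variable {G : Type*} [Group G] [Finite G]

/-- The data of the counting argument in characteristic two. -/
structure Setup2 (y : G) (q k : ℕ) (tor : G → Prop) : Prop where
  caz : CAZ (⊥ : Subgroup G)
  hy : y ≠ 1
  hq : 2 ≤ q
  hqeven : Even q
  card_cent_y : Nat.card (cent y) = q
  card_S : Nat.card (Subgroup.normalizer ((cent y : Subgroup G) : Set G)) = q * k
  k_le : k ≤ q - 1
  S_ne_top : Subgroup.normalizer ((cent y : Subgroup G) : Set G) ≠ ⊤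
  hmod : q ∣ (Subgroup.normalizer ((cent y : Subgroup G) : Set G)).index - 1
  tor_or : ∀ x, x ≠ 1 → x ∈ cl (⊥ : Subgroup G) y ∨ tor x
  tor_not : ∀ x, tor x → x ≠ 1 ∧ x ∉ cl (⊥ : Subgroup G) y
  tor_norm : ∀ x, tor x → ∃ e : ℕ, (e = 1 ∨ e = 2) ∧
    Nat.card (Subgroup.normalizer ((cent x : Subgroup G) : Set G)) = e * Nat.card (cent x)
  exists_T : 1 < k → ∃ n₀, tor n₀ ∧ Nat.card (cent n₀) = k

variable {y : G} {q k : ℕ} {tor : G → Prop}

theorem Setup2.cl_tor (h : Setup2 y q k tor) {x : G} (hx : tor x) :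
    ∃ e f : ℕ, (e = 1 ∨ e = 2) ∧ 2 ≤ f ∧ Nat.card (cent x) = f ∧
      Nat.card (Subgroup.normalizer ((cent x : Subgroup G) : Set G)) = e * f ∧
      (cl (⊥ : Subgroup G) x).ncard * (e * f) =
        (Subgroup.normalizer ((cent y : Subgroup G) : Set G)).index * q * k * (f - 1) := by
  obtain ⟨hx1, _⟩ := h.tor_not x hx
  obtain ⟨e, he, hN⟩ := h.tor_norm x hx
  have hxZ : x ∉ (⊥ : Subgroup G) := by rwa [Subgroup.mem_bot]
  have hf2 : 2 ≤ Nat.card (cent x) := by
    have : Nontrivial ↥(cent x) :=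
      ⟨⟨⟨x, self_mem_cent x⟩, 1, fun hc => hx1 (congrArg Subtype.val hc)⟩⟩
    exact Finite.one_lt_card
  refine ⟨e, Nat.card (cent x), he, hf2, rfl, hN, ?_⟩
  have h1 := h.caz.ncard_cl hxZ
  have h2 := Subgroup.index_mul_card (Subgroup.normalizer ((cent x : Subgroup G) : Set G))
  have h3 := Subgroup.index_mul_card (Subgroup.normalizer ((cent y : Subgroup G) : Set G))
  rw [h.card_S] at h3
  rw [hN] at h2
  rw [Subgroup.card_bot] at h1
  rw [h1]
  calc (Subgroup.normalizer ((cent x : Subgroup G) : Set G)).index * (Nat.card (cent x) - 1) *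
        (e * Nat.card (cent x))
      = ((Subgroup.normalizer ((cent x : Subgroup G) : Set G)).index *
          (e * Nat.card (cent x))) * (Nat.card (cent x) - 1) := by ring
    _ = Nat.card G * (Nat.card (cent x) - 1) := by rw [h2]
    _ = (Subgroup.normalizer ((cent y : Subgroup G) : Set G)).index * (q * k) *
          (Nat.card (cent x) - 1) := by rw [h3]
    _ = _ := by ring

/-- arithmetic for the case `k = 1` -/
theorem arith2_d1 {n q C e f : ℕ} (hn : 2 ≤ n) (hq : 2 ≤ q) (hqe : Even q)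
    (he : e = 1 ∨ e = 2) (hf : 2 ≤ f)
    (hC : C * (e * f) = n * q * 1 * (f - 1)) (hle : C + 1 ≤ n) :
    q = 2 ∧ e = 2 := by
  obtain ⟨f', rfl⟩ : ∃ f', f = f' + 2 := ⟨f - 2, by omega⟩
  have e1 : f' + 2 - 1 = f' + 1 := by omega
  rw [e1] at hC
  have hefpos : 0 < e * (f' + 2) := by rcases he with rfl | rfl <;> omega
  have h1 : n * (q * (f' + 1)) < n * (e * (f' + 2)) := by
    calc n * (q * (f' + 1)) = C * (e * (f' + 2)) := by rw [hC]; ring
      _ < n * (e * (f' + 2)) := Nat.mul_lt_mul_of_pos_right (by omega) hefpos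
  have h2 : q * (f' + 1) < e * (f' + 2) := Nat.lt_of_mul_lt_mul_left h1
  have h4 : e * (f' + 2) ≤ 2 * (f' + 2) := by rcases he with rfl | rfl <;> omega
  have hq4 : q < 4 := by
    by_contra hge
    push Not at hge
    have : 4 * (f' + 1) ≤ q * (f' + 1) := Nat.mul_le_mul_right _ hge
    omega
  obtain ⟨j, hj⟩ := hqe
  have hq2 : q = 2 := by omega
  refine ⟨hq2, ?_⟩
  subst hq2
  rcases he with rfl | rfl
  · omega
  · rfl

/-- arithmetic: the end of the analysis in characteristic two -/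
theorem arith2_final {n q d f : ℕ} (hn : 2 ≤ n) (hq : 4 ≤ q) (hqe : Even q) (hd2 : 2 ≤ d)
    (hdq : d ≤ q - 1) (hf0 : f ≠ 0) (hq1 : q ∣ n - 1)
    (h : n * q * d + 2 * f * n = f * (n * q) + 2 * f) :
    n = 1 + q ∧ d = q - 1 := by
  obtain ⟨N, hN⟩ := hq1
  have hnN : n = 1 + N * q := by rw [mul_comm N q]; omega
  have hN1 : 1 ≤ N := by
    rcases Nat.eq_zero_or_pos N with h0 | h0
    · rw [h0] at hnN; omega
    · exact h0
  subst hnN
  have hqpos : 0 < q := by omega
  have h2 : (1 + N * q) * d + 2 * f * N = f * (1 + N * q) := by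
    apply Nat.eq_of_mul_eq_mul_left hqpos
    nlinarith
  obtain ⟨q', rfl⟩ : ∃ q', q = q' + 2 := ⟨q - 2, by omega⟩
  have e2 : q' + 2 - 2 = q' := by omega
  have hfd : d < f := by
    by_contra hle'
    push Not at hle'
    have : f * (1 + N * (q' + 2)) ≤ d * (1 + N * (q' + 2)) := Nat.mul_le_mul_right _ hle'
    have hpos : 0 < f * N := Nat.mul_pos (Nat.pos_of_ne_zero hf0) hN1
    nlinarith
  obtain ⟨c, rfl⟩ : ∃ c, f = d + c := ⟨f - d, by omega⟩
  have hc1 : 1 ≤ c := by omega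
  have h3 : c * (1 + N * (q' + 2 - 2)) = 2 * N * d := by
    rw [e2]
    nlinarith
  rcases dioph_final hN1 (by omega) hd2 hdq hc1 h3 with hN | ⟨-, hq3, -⟩
  · subst hN
    rw [e2] at h3
    have e3 : q' + 2 - 1 = q' + 1 := by omega
    rw [e3] at hdq ⊢
    have hc2 : c ≤ 2 := by
      by_contra hgt
      push Not at hgt
      have : 3 * (1 + 1 * q') ≤ c * (1 + 1 * q') := Nat.mul_le_mul_right _ hgt
      omega
    obtain ⟨j, hj⟩ := hqe
    have hc : c = 2 := by
      rcases (by omega : c = 1 ∨ c = 2) with rfl | rfl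
      · exfalso; omega
      · rfl
    subst hc
    constructor
    · ring
    · omega
  · omega

set_option maxHeartbeats 1000000 in
/-- **The class equation analysis in characteristic two.** -/
theorem Setup2.main (h : Setup2 y q k tor) :
    (q = 2 ∧ k = 1 ∧ ∃ x, tor x ∧
        Nat.card (Subgroup.normalizer ((cent x : Subgroup G) : Set G)) = 2 * Nat.card (cent x) ∧
        Nat.card G = 2 * Nat.card (cent x)) ∨
      (4 ≤ q ∧ k = q - 1 ∧
        (Subgroup.normalizer ((cent y : Subgroup G) : Set G)).index = 1 + q) := by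
  classical
  obtain ⟨n, hndef⟩ : ∃ n, n = (Subgroup.normalizer ((cent y : Subgroup G) : Set G)).index :=
    ⟨_, rfl⟩
  rw [← hndef]
  have hn2 : 2 ≤ n := by
    have h0 : n ≠ 0 := by rw [hndef]; exact Subgroup.index_ne_zero_of_finite
    have h1 : n ≠ 1 := by
      rw [hndef]; intro h1; exact h.S_ne_top (Subgroup.index_eq_one.1 h1)
    omega
  have hG : Nat.card G = n * (q * k) := by
    rw [hndef, ← h.card_S]; exact (Subgroup.index_mul_card _).symm
  have hq := h.hq
  have hqe := h.hqeven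
  have hd1 : 1 ≤ k := by
    rcases Nat.eq_zero_or_pos k with h0 | h0
    · exfalso
      rw [h0, mul_zero, mul_zero] at hG
      exact (Nat.card_pos (α := G)).ne' hG
    · exact h0
  have hdq := h.k_le
  have hmod : q ∣ n - 1 := by rw [hndef]; exact h.hmod
  -- the complement of the identity
  have hU : ((((⊥ : Subgroup G) : Set G))ᶜ).ncard + 1 = Nat.card G := by
    have h1 := Set.ncard_add_ncard_compl (((⊥ : Subgroup G) : Set G))
    have h2 : (((⊥ : Subgroup G) : Set G)).ncard = 1 := by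
      rw [← Nat.card_coe_set_eq]; exact Subgroup.card_bot
    rw [h2] at h1
    omega
  have hyZ : y ∉ (⊥ : Subgroup G) := by rw [Subgroup.mem_bot]; exact h.hy
  have hy1 : y ∈ (((⊥ : Subgroup G) : Set G))ᶜ := hyZ
  obtain ⟨hR1, hR1c⟩ := h.caz.good_diff good_compl hy1
  have hCy : (cl (⊥ : Subgroup G) y).ncard = n * (q - 1) := by
    rw [h.caz.ncard_cl hyZ, h.card_cent_y, ← hndef, Subgroup.card_bot]
  obtain ⟨R1, hR1def⟩ : ∃ R1, R1 = (((⊥ : Subgroup G) : Set G))ᶜ \ cl (⊥ : Subgroup G) y :=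
    ⟨_, rfl⟩
  rw [← hR1def] at hR1 hR1c
  have htorR1 : ∀ x ∈ R1, tor x := by
    intro x hx
    rw [hR1def] at hx
    have hx1 : x ≠ 1 := fun hc => hx.1 (by rw [hc]; exact Subgroup.one_mem _)
    rcases h.tor_or x hx1 with h1 | h1
    · exact absurd h1 hx.2
    · exact h1
  have hcl : ∀ x, tor x → ∃ e f : ℕ, (e = 1 ∨ e = 2) ∧ 2 ≤ f ∧ Nat.card (cent x) = f ∧
      Nat.card (Subgroup.normalizer ((cent x : Subgroup G) : Set G)) = e * f ∧
      (cl (⊥ : Subgroup G) x).ncard * (e * f) = n * q * k * (f - 1) := by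
    intro x hx
    have := h.cl_tor hx
    rw [← hndef] at this
    exact this
  have hquarter : ∀ x, tor x → n * q * k ≤ 4 * (cl (⊥ : Subgroup G) x).ncard := by
    intro x hx
    obtain ⟨e, f, he, hf, -, -, hC⟩ := hcl x hx
    exact four_mul_ge he hf hC
  have hstep : ∀ R : Set G, Good (⊥ : Subgroup G) R → R ⊆ R1 → ∀ x ∈ R,
      (cl (⊥ : Subgroup G) x).ncard ≤ R.ncard ∧ Good (⊥ : Subgroup G) (R \ cl (⊥ : Subgroup G) x) ∧
        (R \ cl (⊥ : Subgroup G) x).ncard + (cl (⊥ : Subgroup G) x).ncard = R.ncard ∧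
        R \ cl (⊥ : Subgroup G) x ⊆ R1 := by
    intro R hR hRR1 x hx
    obtain ⟨h1, h2⟩ := h.caz.good_diff hR hx
    exact ⟨by omega, h1, h2, fun w hw => hRR1 hw.1⟩
  have hR1card : R1.ncard + n * (q - 1) + 1 = n * (q * k) := by
    rw [← hG, ← hU, ← hR1c, hCy]
  obtain ⟨q', rfl⟩ : ∃ q', q = q' + 2 := ⟨q - 2, by omega⟩
  have eq1 : q' + 2 - 1 = q' + 1 := by omega
  rw [eq1] at hR1card hdq ⊢
  rcases Nat.lt_or_ge 1 k with hd2 | hd1'
  · -- `k ≥ 2`
    right
    have hq4 : 4 ≤ q' + 2 := by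
      obtain ⟨j, hj⟩ := hqe
      omega
    obtain ⟨n₀, hn₀tor, hn₀card⟩ := h.exists_T hd2
    obtain ⟨hn₀Z, hn₀y⟩ := h.tor_not n₀ hn₀tor
    have hn₀R1 : n₀ ∈ R1 := by
      rw [hR1def]
      refine ⟨?_, hn₀y⟩
      intro hc
      exact hn₀Z ((Subgroup.mem_bot).1 hc)
    obtain ⟨e₀, f₀, he₀, hf₀, hc₀, -, hC₀⟩ := hcl n₀ hn₀tor
    have hf₀d : f₀ = k := by rw [← hc₀, hn₀card]
    subst hf₀d
    obtain ⟨hle0, hR2, hR2c, hR2sub⟩ := hstep R1 hR1 le_rfl n₀ hn₀R1
    obtain ⟨R2, hR2def⟩ : ∃ R2, R2 = R1 \ cl (⊥ : Subgroup G) n₀ := ⟨_, rfl⟩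
    rw [← hR2def] at hR2 hR2c hR2sub
    have hC₀' : (cl (⊥ : Subgroup G) n₀).ncard * e₀ = n * (q' + 2) * (f₀ - 1) := by
      have : (cl (⊥ : Subgroup G) n₀).ncard * e₀ * f₀ = n * (q' + 2) * (f₀ - 1) * f₀ := by
        rw [mul_assoc, hC₀]; ring
      exact Nat.eq_of_mul_eq_mul_right (by omega) this
    obtain ⟨d', rfl⟩ : ∃ d', f₀ = d' + 2 := ⟨f₀ - 2, by omega⟩
    have ed1 : d' + 2 - 1 = d' + 1 := by omega
    rw [ed1] at hC₀'
    rcases he₀ with rfl | rfl
    · -- `e₀ = 1` is impossible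
      exfalso
      rw [mul_one] at hC₀'
      have hR2z : R2.ncard + 1 = n := by
        have e1 : (R1.ncard : ℤ) + n * (q' + 1) + 1 = n * ((q' + 2) * (d' + 2)) := by
          exact_mod_cast hR1card
        have e2 : (R2.ncard : ℤ) + (cl (⊥ : Subgroup G) n₀).ncard = R1.ncard := by
          exact_mod_cast hR2c
        have e3 : ((cl (⊥ : Subgroup G) n₀).ncard : ℤ) = n * (q' + 2) * (d' + 1) := by
          exact_mod_cast hC₀'
        have : (R2.ncard + 1 : ℤ) = n := by linear_combination e1 + e2 - e3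
        exact_mod_cast this
      have hR2ne : R2.Nonempty := by
        apply Set.nonempty_of_ncard_ne_zero
        omega
      obtain ⟨x₃, hx₃⟩ := hR2ne
      have hx₃tor := htorR1 x₃ (hR2sub hx₃)
      obtain ⟨hle3, -, -, -⟩ := hstep R2 hR2 hR2sub x₃ hx₃
      have hq4' := hquarter x₃ hx₃tor
      have : n * 8 ≤ n * (q' + 2) * (d' + 2) := by
        have : 8 ≤ (q' + 2) * (d' + 2) := by nlinarith
        calc n * 8 ≤ n * ((q' + 2) * (d' + 2)) := Nat.mul_le_mul_left _ this
          _ = _ := by ring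
      omega
    · -- `e₀ = 2`
      have hA3 : 2 * R2.ncard + 2 * 1 + n * (q' + 2) =
          n * (q' + 2) * (d' + 2) + 2 * n := by
        have e1 : (R1.ncard : ℤ) + n * (q' + 1) + 1 = n * ((q' + 2) * (d' + 2)) := by
          exact_mod_cast hR1card
        have e2 : (R2.ncard : ℤ) + (cl (⊥ : Subgroup G) n₀).ncard = R1.ncard := by
          exact_mod_cast hR2c
        have e3 : ((cl (⊥ : Subgroup G) n₀).ncard : ℤ) * 2 = n * (q' + 2) * (d' + 1) := by
          exact_mod_cast hC₀'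
        have : (2 * R2.ncard + 2 * 1 + n * (q' + 2) : ℤ) =
            n * (q' + 2) * (d' + 2) + 2 * n := by
          linear_combination 2 * e1 + 2 * e2 - e3
        exact_mod_cast this
      have hR2ne : R2.Nonempty := by
        apply Set.nonempty_of_ncard_ne_zero
        have h2 : n * (q' + 2) * 2 ≤ n * (q' + 2) * (d' + 2) :=
          Nat.mul_le_mul_left _ (by omega)
        have h3 : 0 < n * (q' + 2) := Nat.mul_pos (by omega) (by omega)
        omega
      obtain ⟨x₃, hx₃⟩ := hR2ne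
      have hx₃tor := htorR1 x₃ (hR2sub hx₃)
      obtain ⟨e, f, he, hf, -, -, hC⟩ := hcl x₃ hx₃tor
      obtain ⟨hle3, hR3, hR3c, hR3sub⟩ := hstep R2 hR2 hR2sub x₃ hx₃
      have hm : 0 < n := by omega
      rcases he with rfl | rfl
      · exact absurd (arith_e2_e1 hm (by omega) hf hA3 hC hle3) id
      · have hA4 := arith_e2_e2 hf hA3 hC hR3c
        have hR3empty : (R2 \ cl (⊥ : Subgroup G) x₃) = ∅ := by
          by_contra hne
          obtain ⟨x₄, hx₄⟩ := Set.nonempty_iff_ne_empty.2 hne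
          have hx₄tor := htorR1 x₄ (hR3sub hx₄)
          obtain ⟨hle4, -, -, -⟩ := hstep _ hR3 hR3sub x₄ hx₄
          have hq4' := hquarter x₄ hx₄tor
          exact arith_e2_e2_no_more hm (by omega) hf hA4 hq4' hle4
        rw [hR3empty, Set.ncard_empty, mul_zero, zero_add] at hA4
        have hfin : n * (q' + 2) * (d' + 2) + 2 * f * n = f * (n * (q' + 2)) + 2 * f := by
          have e4 : (2 * f * 1 + f * (n * (q' + 2)) : ℤ) =
              n * (q' + 2) * (d' + 2) + 2 * f * n := by exact_mod_cast hA4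
          have : (n * (q' + 2) * (d' + 2) + 2 * f * n : ℤ) =
              f * (n * (q' + 2)) + 2 * f := by linear_combination (-1 : ℤ) * e4
          exact_mod_cast this
        have hdq' : d' + 2 ≤ q' + 2 - 1 := by omega
        obtain ⟨h1, h2⟩ := arith2_final hn2 hq4 hqe (by omega) hdq' (by omega) hmod hfin
        exact ⟨hq4, by omega, h1⟩
  · -- `k = 1`
    have hd' : k = 1 := by omega
    subst hd'
    left
    have hR1z : R1.ncard + 1 = n := by
      have e1 : (R1.ncard : ℤ) + n * (q' + 1) + 1 = n * ((q' + 2) * 1) := by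
        exact_mod_cast hR1card
      have : (R1.ncard + 1 : ℤ) = n := by linear_combination e1
      exact_mod_cast this
    have hR1ne : R1.Nonempty := by
      apply Set.nonempty_of_ncard_ne_zero
      omega
    obtain ⟨x₃, hx₃⟩ := hR1ne
    have hx₃tor := htorR1 x₃ hx₃
    obtain ⟨e, f, he, hf, hcf, hNf, hC⟩ := hcl x₃ hx₃tor
    obtain ⟨hle3, hR3, hR3c, hR3sub⟩ := hstep R1 hR1 le_rfl x₃ hx₃
    obtain ⟨hq2, he2⟩ := arith2_d1 hn2 hq hqe he hf hC (by omega)
    subst he2
    have hq0 : q' = 0 := by omega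
    subst hq0
    refine ⟨rfl, rfl, x₃, hx₃tor, ?_, ?_⟩
    · rw [hNf, hcf]
    -- `C₃ f = n (f - 1)`
    have hC3 : (cl (⊥ : Subgroup G) x₃).ncard * f = n * (f - 1) := by
      have : (cl (⊥ : Subgroup G) x₃).ncard * f * 2 = n * (f - 1) * 2 := by
        calc (cl (⊥ : Subgroup G) x₃).ncard * f * 2 = (cl (⊥ : Subgroup G) x₃).ncard * (2 * f) := by
              ring
          _ = n * (0 + 2) * 1 * (f - 1) := hC
          _ = _ := by ring
      exact Nat.eq_of_mul_eq_mul_right (by norm_num) this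
    have hhalf : ∀ x, tor x → n ≤ 2 * (cl (⊥ : Subgroup G) x).ncard ∨
        n * 2 ≤ 2 * (cl (⊥ : Subgroup G) x).ncard := by
      intro x hx
      obtain ⟨e', f', he', hf', -, -, hC'⟩ := hcl x hx
      obtain ⟨f'', rfl⟩ : ∃ f'', f' = f'' + 2 := ⟨f' - 2, by omega⟩
      have e1 : f'' + 2 - 1 = f'' + 1 := by omega
      rw [e1] at hC'
      rcases he' with rfl | rfl
      · right
        have : n * 2 * (f'' + 2) ≤ 2 * (cl (⊥ : Subgroup G) x).ncard * (f'' + 2) := by nlinarith
        exact Nat.le_of_mul_le_mul_right this (by omega)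
      · left
        have : n * (f'' + 2) ≤ 2 * (cl (⊥ : Subgroup G) x).ncard * (f'' + 2) := by nlinarith
        exact Nat.le_of_mul_le_mul_right this (by omega)
    have hR3empty : (R1 \ cl (⊥ : Subgroup G) x₃) = ∅ := by
      by_contra hne
      obtain ⟨x₄, hx₄⟩ := Set.nonempty_iff_ne_empty.2 hne
      have hx₄tor := htorR1 x₄ (hR3sub hx₄)
      obtain ⟨hle4, -, -, -⟩ := hstep _ hR3 hR3sub x₄ hx₄
      have h3 := hhalf x₃ hx₃tor
      have h4 := hhalf x₄ hx₄tor
      omega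
    rw [hR3empty, Set.ncard_empty, zero_add] at hR3c
    have hfn : f = n := by
      obtain ⟨f'', rfl⟩ : ∃ f'', f = f'' + 2 := ⟨f - 2, by omega⟩
      have e1 : f'' + 2 - 1 = f'' + 1 := by omega
      rw [e1] at hC3
      have : (cl (⊥ : Subgroup G) x₃).ncard = n - 1 := by omega
      rw [this] at hC3
      obtain ⟨n', rfl⟩ : ∃ n', n = n' + 1 := ⟨n - 1, by omega⟩
      rw [Nat.add_sub_cancel] at hC3
      nlinarith
    rw [hG, hcf, hfn]; ring

end Cfsg.Agent.Lib.H5.DicksonTwo
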