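import Mathlib
import Cfsg.Agent.Lib.H4.Dickson.SL2Tor3
import Cfsg.Agent.Lib.H5.DicksonTwo.Num
import Cfsg.Agent.Lib.H5.SL2Char2
import Cfsg.Agent.Lib.H5.AutQ8

/-!
# Subgroups of `SL₂(K)` in characteristic two: the hypotheses of the class equation
-/

set_option autoImplicit false
set_option linter.style.haveILetI false

namespace Cfsg.Agent.Lib.H5.DicksonTwo

open Matrix Cfsg.Agent.Lib.H12 Cfsg.Agent.Lib.H4.Dickson

variable {K : Type*} [Field K]

local notation "SL2" => Matrix.SpecialLinearGroup (Fin 2) K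
local notation "M2" => Matrix (Fin 2) (Fin 2) K

variable {L : Subgroup (Matrix.SpecialLinearGroup (Fin 2) K)}

theorem charP_two (h2 : (2 : K) = 0) : CharP K 2 :=
  CharTwo.of_one_ne_zero_of_two_eq_zero one_ne_zero h2

theorem neg_eq (h2 : (2 : K) = 0) (x : K) : -x = x := Cfsg.Agent.Lib.H5.SL2Char2.neg_eq_self h2 x

theorem eq_one_of_sq (h2 : (2 : K) = 0) {a : K} (h : a ^ 2 = 1) : a = 1 := by
  have : (a - 1) ^ 2 = 0 := by linear_combination h - a * h2 + h2
  exact sub_eq_zero.1 ((pow_eq_zero_iff two_ne_zero).1 this)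

theorem ZL_eq_bot (h2 : (2 : K) = 0) : ZL L = ⊥ := by
  rw [eq_bot_iff]
  intro g hg
  rw [Subgroup.mem_bot]
  rcases (mem_ZL_iff L g).1 hg with h | h
  · exact Subtype.ext h
  · apply Subtype.ext
    rw [h, Cfsg.Agent.Lib.H5.SL2Char2.sl2_neg_one_eq_one h2]; rfl

theorem caz2 (h2 : (2 : K) = 0) : CAZ (⊥ : Subgroup ↥L) := by
  rw [← ZL_eq_bot h2]; exact caz L

theorem tor_iff (h2 : (2 : K) = 0) (x : ↥L) : tor L x ↔ ((x : SL2) : M2).trace ≠ 0 := by
  unfold tor
  have h4 : (4 : K) = 0 := by linear_combination 2 * h2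
  rw [h4]
  exact not_congr (pow_eq_zero_iff two_ne_zero)

/-- an element of trace zero is an involution -/
theorem mul_self_of_trace (h2 : (2 : K) = 0) (x : SL2) (ht : (x : M2).trace = 0) : x * x = 1 := by
  apply Subtype.ext
  rw [Matrix.SpecialLinearGroup.coe_mul, m2_cayley _ x.det_coe, ht, zero_smul, zero_sub,
    Matrix.SpecialLinearGroup.coe_one]
  exact Cfsg.Agent.Lib.H5.SL2Char2.neg_one_eq_one_mat h2

theorem conj_cases2 (h2 : (2 : K) = 0) {d : SL2} (ht : (d : M2).trace ^ 2 ≠ 4) {g : SL2}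
    (hy : g * d * g⁻¹ ∈ Subgroup.centralizer ({d} : Set SL2)) :
    g * d * g⁻¹ = d ∨ g * d * g⁻¹ = d⁻¹ := by
  have hd : NonScalar (d : M2) := nonScalar_of_trace_sq_ne d ht
  have ht0 : (d : M2).trace ≠ 0 := by
    intro h
    apply ht
    rw [h]; linear_combination (-2 : K) * h2
  obtain ⟨α, β, hy'⟩ := (mem_centralizer_iff_span hd _).mp hy
  have hT : 2 * α + β * (d : M2).trace = (d : M2).trace := by
    rw [← trace_span, ← hy', sl2_trace_conj]
  have hD : α ^ 2 + α * β * (d : M2).trace + β ^ 2 = 1 := by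
    rw [← det_span _ d.det_coe, ← hy']
    exact (g * d * g⁻¹).det_coe
  have hβ : β = 1 := by
    have : (β - 1) * (d : M2).trace = 0 := by linear_combination hT - α * h2
    rcases mul_eq_zero.1 this with h | h
    · exact sub_eq_zero.1 h
    · exact absurd h ht0
  rw [hβ] at hD
  have hα : α * (α + (d : M2).trace) = 0 := by linear_combination hD
  rcases mul_eq_zero.1 hα with h | h
  · left
    apply Subtype.ext
    rw [hy', h, hβ]
    simp
  · right
    have hα' : α = (d : M2).trace := by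
      have : α = -(d : M2).trace := by linear_combination h
      rw [this, neg_eq h2]
    apply Subtype.ext
    rw [hy', hα', hβ, sl2_inv_val, one_smul, sub_eq_add_neg]
    congr 1
    ext i j
    rw [Matrix.neg_apply, neg_eq h2]

/-- the normalizer of a torus has index at most two over the torus, characteristic two -/
theorem tor_norm2 (h2 : (2 : K) = 0) [Finite L] {x : ↥L} (hx : tor L x) :
    ∃ e : ℕ, (e = 1 ∨ e = 2) ∧
      Nat.card (Subgroup.normalizer ((cent x : Subgroup ↥L) : Set ↥L)) = e * Nat.card (cent x) := by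
  have hle : cent x ≤ Subgroup.normalizer ((cent x : Subgroup ↥L) : Set ↥L) :=
    Subgroup.le_normalizer
  have hcases : ∀ b ∈ Subgroup.normalizer ((cent x : Subgroup ↥L) : Set ↥L),
      b * x * b⁻¹ = x ∨ b * x * b⁻¹ = x⁻¹ := by
    intro b hb
    have h1 : b * x * b⁻¹ ∈ cent x :=
      (Subgroup.mem_normalizer_iff.1 hb x).1 (self_mem_cent x)
    have h2' : (b : SL2) * (x : SL2) * (b : SL2)⁻¹ ∈
        Subgroup.centralizer ({(x : SL2)} : Set SL2) := by
      rw [Subgroup.mem_centralizer_singleton_iff]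
      exact mem_cent_coe.1 h1
    rcases conj_cases2 h2 hx h2' with h3 | h3
    · left; exact Subtype.ext h3
    · right; exact Subtype.ext h3
  have hdvd : (cent x).relIndex (Subgroup.normalizer ((cent x : Subgroup ↥L) : Set ↥L)) ∣ 2 := by
    rw [Subgroup.relIndex_dvd_two_iff]
    by_cases hall : ∀ b ∈ Subgroup.normalizer ((cent x : Subgroup ↥L) : Set ↥L), b ∈ cent x
    · exact ⟨1, Subgroup.one_mem _, fun b hb => Or.inr (hall b hb)⟩
    · push Not at hall
      obtain ⟨a, haN, haC⟩ := hall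
      have ha : a * x * a⁻¹ = x⁻¹ := by
        rcases hcases a haN with h | h
        · exfalso
          apply haC
          rw [mem_cent]
          calc a * x = (a * x * a⁻¹) * a := by group
            _ = x * a := by rw [h]
        · exact h
      refine ⟨a, haN, fun b hb => ?_⟩
      rcases hcases b hb with h | h
      · right
        rw [mem_cent]
        calc b * x = (b * x * b⁻¹) * b := by group
          _ = x * b := by rw [h]
      · left
        rw [mem_cent]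
        have h3 : b * a * x * (b * a)⁻¹ = x := by
          calc b * a * x * (b * a)⁻¹ = b * (a * x * a⁻¹) * b⁻¹ := by group
            _ = b * x⁻¹ * b⁻¹ := by rw [ha]
            _ = (b * x * b⁻¹)⁻¹ := by group
            _ = x := by rw [h, inv_inv]
        calc b * a * x = (b * a * x * (b * a)⁻¹) * (b * a) := by group
          _ = x * (b * a) := by rw [h3]
  have hcard := Subgroup.relIndex_mul_relIndex (⊥ : Subgroup ↥L) _ _ bot_le hle
  rw [Subgroup.relIndex_bot_left, Subgroup.relIndex_bot_left] at hcard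
  have h12 : (cent x).relIndex (Subgroup.normalizer ((cent x : Subgroup ↥L) : Set ↥L)) = 1 ∨
      (cent x).relIndex (Subgroup.normalizer ((cent x : Subgroup ↥L) : Set ↥L)) = 2 :=
    (Nat.dvd_prime Nat.prime_two).1 hdvd
  refine ⟨_, h12, ?_⟩
  rw [← hcard, mul_comm]

theorem isPGroup_zpowers_of_sq {G : Type*} [Group G] {g : G} (hg : g ^ 2 = 1) :
    IsPGroup 2 (Subgroup.zpowers g) := by
  haveI : Fact (Nat.Prime 2) := ⟨Nat.prime_two⟩
  exact isPGroup_zpowers_of_pow 2 hg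

/-- an involution of `L` is conjugate into the centralizer of `uu lam` -/
theorem unip_conj2 [Finite K] (h2 : (2 : K) = 0) {lam : K} (hlam : lam ≠ 0) (hL : uu lam ∈ L)
    {u : ↥L} (hu : ((u : SL2) : M2).trace = 0) :
    ∃ k : ↥L, k * u * k⁻¹ ∈ cent (⟨uu lam, hL⟩ : ↥L) := by
  haveI : Fact (Nat.Prime 2) := ⟨Nat.prime_two⟩
  obtain ⟨y, hy⟩ : ∃ y : ↥L, y = ⟨uu lam, hL⟩ := ⟨_, rfl⟩
  rw [← hy]
  have hyp : y ^ 2 = 1 := by
    apply Subtype.ext
    rw [Subgroup.coe_pow, Subgroup.coe_one, hy, pow_two]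
    apply mul_self_of_trace h2
    rw [trace_eq, uu_00, uu_11]; linear_combination h2
  have hup : u ^ 2 = 1 := by
    apply Subtype.ext
    rw [Subgroup.coe_pow, Subgroup.coe_one, pow_two]
    exact mul_self_of_trace h2 _ hu
  obtain ⟨P, hP⟩ := (isPGroup_zpowers_of_sq hyp).exists_le_sylow
  obtain ⟨Q, hQ⟩ := (isPGroup_zpowers_of_sq hup).exists_le_sylow
  obtain ⟨g, hg⟩ := MulAction.exists_smul_eq ↥L Q P
  have hyP : y ∈ (P : Subgroup ↥L) := hP (Subgroup.mem_zpowers y)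
  have huQ : u ∈ (Q : Subgroup ↥L) := hQ (Subgroup.mem_zpowers u)
  have hu'P : g * u * g⁻¹ ∈ (P : Subgroup ↥L) := by
    rw [← hg, Sylow.coe_subgroup_smul]
    have := Subgroup.smul_mem_pointwise_smul u (MulAut.conj g) (Q : Subgroup ↥L) huQ
    rwa [MulAut.smul_def, MulAut.conj_apply] at this
  refine ⟨g, ?_⟩
  have hy1 : y ≠ 1 := by
    intro h
    have h3 := congrArg (fun z : ↥L => ((z : SL2) : M2) 0 1) h
    rw [hy] at h3
    simp only [uu_01, Subgroup.coe_one, Matrix.SpecialLinearGroup.coe_one] at h3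
    rw [Matrix.one_apply_ne (by decide)] at h3
    exact hlam h3
  have : Nontrivial ↥(P : Subgroup ↥L) := ⟨⟨⟨y, hyP⟩, 1, fun h => hy1 (congrArg Subtype.val h)⟩⟩
  have hcen := IsPGroup.bot_lt_center (P.isPGroup')
  obtain ⟨c, hcC, hc1⟩ := SetLike.exists_of_lt hcen
  rw [Subgroup.mem_bot] at hc1
  have hcZ : (c : ↥L) ∉ (⊥ : Subgroup ↥L) := by
    rw [Subgroup.mem_bot]
    intro h
    exact hc1 (Subtype.ext h)
  rw [Subgroup.mem_center_iff] at hcC
  have e1 : y * (c : ↥L) = (c : ↥L) * y := congrArg Subtype.val (hcC ⟨y, hyP⟩)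
  have e2 : g * u * g⁻¹ * (c : ↥L) = (c : ↥L) * (g * u * g⁻¹) :=
    congrArg Subtype.val (hcC ⟨g * u * g⁻¹, hu'P⟩)
  rw [mem_cent]
  exact (caz2 h2).ca _ hcZ _ _ e2 e1

theorem tor_or2 [Finite K] (h2 : (2 : K) = 0) {lam : K} (hlam : lam ≠ 0) (hL : uu lam ∈ L)
    (x : ↥L) (hx1 : x ≠ 1) : x ∈ cl (⊥ : Subgroup ↥L) (⟨uu lam, hL⟩ : ↥L) ∨ tor L x := by
  by_cases hx : tor L x
  · exact Or.inr hx
  left
  rw [tor_iff h2, not_not] at hx
  refine ⟨?_, unip_conj2 h2 hlam hL hx⟩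
  rw [Subgroup.mem_bot]; exact hx1

theorem tor_not2 (h2 : (2 : K) = 0) {lam : K} (hlam : lam ≠ 0) (hL : uu lam ∈ L) {x : ↥L}
    (hx : tor L x) : x ≠ 1 ∧ x ∉ cl (⊥ : Subgroup ↥L) (⟨uu lam, hL⟩ : ↥L) := by
  have := tor_not_cl hlam hL hx
  rw [ZL_eq_bot h2, Subgroup.mem_bot] at this
  exact this

theorem card_cent_uu2 (h2 : (2 : K) = 0) {lam : K} (hlam : lam ≠ 0) (hL : uu lam ∈ L) :
    Nat.card (cent (⟨uu lam, hL⟩ : ↥L)) = Nat.card (AA L) := by
  symm
  apply Nat.card_congr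
  have hmem : ∀ a : ↥(AA L), (⟨uu (a : K), (mem_AA L).1 a.2⟩ : ↥L) ∈
      cent (⟨uu lam, hL⟩ : ↥L) := by
    intro a
    rw [mem_cent_uu hlam hL]
    exact ⟨uu_10 _, (uu_00 _).trans (uu_11 _).symm⟩
  refine Equiv.ofBijective (fun a => ⟨_, hmem a⟩) ⟨?_, ?_⟩
  · intro a a' h
    have h' : (⟨uu (a : K), (mem_AA L).1 a.2⟩ : ↥L) = ⟨uu (a' : K), (mem_AA L).1 a'.2⟩ :=
      congrArg Subtype.val h
    exact Subtype.ext (uu_injective (congrArg Subtype.val h'))
  · rintro ⟨x, hx⟩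
    obtain ⟨h10, h01⟩ := (mem_cent_uu hlam hL).1 hx
    have hd := diag_of_upper h10
    have h00 : en L x 0 0 = 1 := by
      apply eq_one_of_sq h2
      rw [pow_two]
      nth_rewrite 2 [h01]
      exact hd
    have hxu := coe_eq_uu h10 h00
    have hA : en L x 0 1 ∈ AA L := by rw [mem_AA, ← hxu]; exact x.2
    refine ⟨⟨en L x 0 1, hA⟩, ?_⟩
    apply Subtype.ext
    apply Subtype.ext
    exact hxu.symm

theorem card_AA_even [Finite K] (h2 : (2 : K) = 0) {lam : K} (hlam : lam ≠ 0) (hL : uu lam ∈ L) :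
    2 ≤ Nat.card (AA L) ∧ Even (Nat.card (AA L)) := by
  haveI : Fact (Nat.Prime 2) := ⟨Nat.prime_two⟩
  haveI := charP_two h2
  obtain ⟨k, hk⟩ := card_AA_pow (L := L) 2
  have h1 : 1 < Nat.card (AA L) := by
    have : Nontrivial ↥(AA L) := ⟨⟨⟨lam, (mem_AA L).2 hL⟩, 0, fun h => hlam (congrArg Subtype.val h)⟩⟩
    exact Finite.one_lt_card
  refine ⟨h1, ?_⟩
  rw [hk] at h1 ⊢
  have hk0 : k ≠ 0 := by
    rintro rfl
    simp at h1
  exact (Nat.even_pow' hk0).2 even_two

theorem card_RR_eq2 [Finite K] (h2 : (2 : K) = 0) {lam : K} (hlam : lam ≠ 0) (hL : uu lam ∈ L) :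
    Nat.card (RR L) = Nat.card (chiSq L).range := by
  have h1 := Subgroup.card_mul_index (chiSq L).ker
  rw [Subgroup.index_ker, chiSq_ker hlam hL,
    Nat.card_congr (Subgroup.subgroupOfEquivOfLe (cent_uu_le_SS hlam hL)).toEquiv,
    card_cent_uu2 h2 hlam hL, card_SS] at h1
  have hq : 0 < Nat.card (AA L) := Nat.card_pos
  apply Nat.eq_of_mul_eq_mul_left hq
  rw [← h1]

theorem card_RR_le2 [Finite K] (h2 : (2 : K) = 0) {lam : K} (hlam : lam ≠ 0) (hL : uu lam ∈ L) :
    Nat.card (RR L) ≤ Nat.card (AA L) - 1 := by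
  rw [card_RR_eq2 h2 hlam hL]
  exact card_chiSq_range_le hlam hL

end Cfsg.Agent.Lib.H5.DicksonTwo
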