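import Mathlib
import Cfsg.Agent.Lib.H5.DicksonTwo.SL2

/-!
# Subgroups of `SL₂(K)` in characteristic two: the dichotomy
-/

set_option autoImplicit false
set_option linter.style.haveILetI false

namespace Cfsg.Agent.Lib.H5.DicksonTwo

open Matrix Cfsg.Agent.Lib.H12 Cfsg.Agent.Lib.H4.Dickson

/-- a subgroup `Q ≤ N` acting freely on the nontrivial cosets of `N` has order dividing
`|G : N| - 1` -/
theorem card_dvd_index_sub_one {G : Type*} [Group G] [Finite G] (Q N : Subgroup G) (hQN : Q ≤ N)
    (hfree : ∀ g : G, g ∉ N → ∀ u ∈ Q, g⁻¹ * u * g ∈ N → u = 1) :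
    Nat.card Q ∣ N.index - 1 := by
  classical
  let S : SubMulAction Q (G ⧸ N) :=
    { carrier := {c | c ≠ ((1 : G) : G ⧸ N)}
      smul_mem' := by
        rintro ⟨u, hu⟩ c hc
        induction c using QuotientGroup.induction_on with
        | H g =>
          intro h
          apply hc
          have h' : ((u * g : G) : G ⧸ N) = ((1 : G) : G ⧸ N) := h
          rw [QuotientGroup.eq] at h' ⊢
          have h1 : (u * g)⁻¹ * 1 ∈ N := h'
          have hu' : u ∈ N := hQN hu
          have : g⁻¹ * 1 = (u * g)⁻¹ * 1 * u := by group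
          rw [this]
          exact N.mul_mem h1 hu' }
  have hfreeS : ∀ b : S, MulAction.stabilizer Q b = ⊥ := by
    rintro ⟨c, hc⟩
    rw [eq_bot_iff]
    rintro ⟨u, hu⟩ hmem
    rw [Subgroup.mem_bot]
    rw [MulAction.mem_stabilizer_iff] at hmem
    have hmem' : (⟨u, hu⟩ : Q) • c = c := congrArg Subtype.val hmem
    induction c using QuotientGroup.induction_on with
    | H g =>
      have hg : g ∉ N := by
        intro hgN
        apply hc
        show ((g : G) : G ⧸ N) = ((1 : G) : G ⧸ N)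
        rw [QuotientGroup.eq]
        simpa using N.inv_mem hgN
      have h' : ((u * g : G) : G ⧸ N) = ((g : G) : G ⧸ N) := hmem'
      rw [QuotientGroup.eq] at h'
      have h1 : g⁻¹ * u * g ∈ N := by
        have : g⁻¹ * u * g = ((u * g)⁻¹ * g)⁻¹ := by group
        rw [this]
        exact N.inv_mem h'
      exact Subtype.ext (hfree g hg u hu h1)
  have hdvd := Cfsg.Agent.Lib.H5.AutQ8.card_dvd_of_free hfreeS
  have hcard : Nat.card S = N.index - 1 := by
    have h1 : Nat.card S = ({c : G ⧸ N | c ≠ ((1 : G) : G ⧸ N)}).ncard :=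
      (Nat.card_coe_set_eq _)
    have h2 : {c : G ⧸ N | c ≠ ((1 : G) : G ⧸ N)} = ({((1 : G) : G ⧸ N)} : Set (G ⧸ N))ᶜ := by
      ext c; simp
    rw [h1, h2, Set.ncard_compl, Set.ncard_singleton, Subgroup.index_eq_card]
  rw [hcard] at hdvd
  exact hdvd

variable {K : Type*} [Field K]

local notation "SL2" => Matrix.SpecialLinearGroup (Fin 2) K
local notation "M2" => Matrix (Fin 2) (Fin 2) K

variable {L : Subgroup (Matrix.SpecialLinearGroup (Fin 2) K)}

/-- the Sylow `2`-subgroup `uu(A)` acts freely on the other cosets of the upper triangular part -/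
theorem card_AA_dvd [Finite K] (h2 : (2 : K) = 0) {lam : K} (hlam : lam ≠ 0) (hL : uu lam ∈ L) :
    Nat.card (AA L) ∣ (SS L).index - 1 := by
  rw [← card_cent_uu2 h2 hlam hL]
  apply card_dvd_index_sub_one _ _ (cent_uu_le_SS hlam hL)
  intro g hg u hu hgu
  rw [mem_SS] at hg hgu
  obtain ⟨h10, h01⟩ := (mem_cent_uu hlam hL).1 hu
  have hd := diag_of_upper h10
  have h00 : en L u 0 0 = 1 := by
    apply eq_one_of_sq h2
    rw [pow_two]
    nth_rewrite 2 [h01]
    exact hd
  have h11 : en L u 1 1 = 1 := by rw [← h01, h00]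
  by_contra hu1
  have hb : en L u 0 1 ≠ 0 := by
    intro hb
    apply hu1
    apply Subtype.ext
    rw [coe_eq_uu h10 h00, hb, uu_zero]; rfl
  apply hg
  -- the `(1,0)` entry of `g⁻¹ u g`
  have e : en L (g⁻¹ * u * g) 1 0 = -(en L u 0 1) * en L g 1 0 ^ 2 := by
    rw [en_mul_10, en_mul_10, en_mul_11, en_inv_10, en_inv_11, h10, h00, h11]
    ring
  rw [e] at hgu
  rcases mul_eq_zero.1 hgu with h | h
  · exact absurd (neg_eq_zero.1 h) hb
  · exact (pow_eq_zero_iff two_ne_zero).1 h

/-- if the diagonal group is nontrivial, there is a torus of that order -/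
theorem exists_T2 [Finite K] (h2 : (2 : K) = 0)
    (hlt : 1 < Nat.card (RR L)) :
    ∃ n₀ : ↥L, tor L n₀ ∧ Nat.card (cent n₀) = Nat.card (RR L) := by
  have hcyc : IsCyclic ↥(RR L) := inferInstance
  obtain ⟨t₀, ht₀⟩ := hcyc.exists_generator
  obtain ⟨g₀, hg₀⟩ : ∃ g₀ : ↥(SS L), chi L g₀ = (t₀ : Kˣ) := t₀.2
  have hsq : en L (g₀ : ↥L) 0 0 ^ 2 ≠ 1 := by
    intro h
    have h1 : en L (g₀ : ↥L) 0 0 = 1 := eq_one_of_sq h2 h
    have ht1 : t₀ = 1 := by
      apply Subtype.ext
      rw [← hg₀]
      apply Units.ext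
      rw [chi_val, h1]; rfl
    have hbot : ∀ t : ↥(RR L), t = 1 := by
      intro t
      have := ht₀ t
      rw [ht1, Subgroup.zpowers_one_eq_bot, Subgroup.mem_bot] at this
      exact this
    have : Nat.card (RR L) = 1 := by
      rw [Nat.card_eq_one_iff_unique]
      exact ⟨⟨fun a b => (hbot a).trans (hbot b).symm⟩, ⟨1⟩⟩
    omega
  have h10 : en L (g₀ : ↥L) 1 0 = 0 := g₀.2
  have hd := diag_of_upper h10
  have hne : en L (g₀ : ↥L) 0 0 ≠ en L (g₀ : ↥L) 1 1 := by
    intro h
    apply hsq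
    rw [pow_two]
    nth_rewrite 2 [h]
    exact hd
  refine ⟨(g₀ : ↥L), ?_, ?_⟩
  · unfold tor
    rw [trace_en]
    intro h
    apply hne
    have h3 : (en L (g₀ : ↥L) 0 0 - en L (g₀ : ↥L) 1 1) ^ 2 = 0 := by
      linear_combination h - 4 * hd
    exact sub_eq_zero.1 ((pow_eq_zero_iff (two_ne_zero)).1 h3)
  · have hle : cent (g₀ : ↥L) ≤ SS L := by
      intro x hx
      rw [mem_cent] at hx
      have e := congrArg (fun z => en L z 1 0) hx
      simp only [en_mul_10, h10] at e
      rw [mem_SS]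
      have : en L x 1 0 * (en L (g₀ : ↥L) 0 0 - en L (g₀ : ↥L) 1 1) = 0 := by
        linear_combination e
      rcases mul_eq_zero.1 this with h | h
      · exact h
      · exact absurd (sub_eq_zero.1 h) hne
    have hbij : Function.Bijective
        (((chi L).rangeRestrict).comp (Subgroup.inclusion hle)) := by
      constructor
      · rw [injective_iff_map_eq_one]
        intro x hx
        have hx1 : chi L (Subgroup.inclusion hle x) = 1 := congrArg Subtype.val hx
        have h00 : en L (x : ↥L) 0 0 = 1 := congrArg Units.val hx1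
        have hx10 : en L (x : ↥L) 1 0 = 0 := hle x.2
        have hxu := coe_eq_uu hx10 h00
        by_cases hc : en L (x : ↥L) 0 1 = 0
        · apply Subtype.ext
          apply Subtype.ext
          rw [hxu, hc, uu_zero]; rfl
        · exfalso
          have hcomm : ((g₀ : ↥L) : SL2) * uu (en L (x : ↥L) 0 1) =
              uu (en L (x : ↥L) 0 1) * ((g₀ : ↥L) : SL2) := by
            rw [← hxu]
            exact (mem_cent_coe.1 x.2).symm
          exact hne ((commute_uu_iff hc _).1 hcomm).2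
      · rintro ⟨t, ht⟩
        have hg : (⟨t, ht⟩ : ↥(RR L)) ∈ Subgroup.zpowers t₀ := ht₀ _
        obtain ⟨n, hn⟩ := Subgroup.mem_zpowers_iff.1 hg
        have hmem : (g₀ : ↥L) ^ n ∈ cent (g₀ : ↥L) :=
          Subgroup.zpow_mem _ (self_mem_cent _) n
        refine ⟨⟨_, hmem⟩, ?_⟩
        apply Subtype.ext
        show chi L (Subgroup.inclusion hle ⟨(g₀ : ↥L) ^ n, hmem⟩) = t
        have e : Subgroup.inclusion hle ⟨(g₀ : ↥L) ^ n, hmem⟩ = g₀ ^ n := by
          apply Subtype.ext
          rw [Subgroup.coe_zpow]; rfl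
        rw [e, map_zpow, hg₀]
        have := congrArg Subtype.val hn
        rw [Subgroup.coe_zpow] at this
        exact this
    exact Nat.card_congr (Equiv.ofBijective _ hbij)

theorem setup2 [Finite K] (h2 : (2 : K) = 0) {lam mu : K} (hlam : lam ≠ 0) (hL : uu lam ∈ L)
    (hmu : mu ≠ 0) (hM : ll mu ∈ L) :
    Setup2 (⟨uu lam, hL⟩ : ↥L) (Nat.card (AA L)) (Nat.card (RR L)) (tor L) where
  caz := caz2 h2
  hy := by
    intro h
    have h3 := congrArg (fun z : ↥L => ((z : SL2) : M2) 0 1) h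
    simp only [uu_01, Subgroup.coe_one, Matrix.SpecialLinearGroup.coe_one] at h3
    rw [Matrix.one_apply_ne (by decide)] at h3
    exact hlam h3
  hq := (card_AA_even h2 hlam hL).1
  hqeven := (card_AA_even h2 hlam hL).2
  card_cent_y := card_cent_uu2 h2 hlam hL
  card_S := by rw [normalizer_cent_uu hlam hL, card_SS]
  k_le := card_RR_le2 h2 hlam hL
  S_ne_top := by
    rw [normalizer_cent_uu hlam hL]
    intro h
    have h1 : (⟨ll mu, hM⟩ : ↥L) ∈ SS L := by rw [h]; exact Subgroup.mem_top _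
    rw [mem_SS] at h1
    exact hmu h1
  hmod := by
    rw [normalizer_cent_uu hlam hL]
    exact card_AA_dvd h2 hlam hL
  tor_or := tor_or2 h2 hlam hL
  tor_not := fun x hx => tor_not2 h2 hlam hL hx
  tor_norm := fun x hx => tor_norm2 h2 hx
  exists_T := exists_T2 h2

/-- **The dichotomy in characteristic two**: a subgroup of `SL₂(K)` containing `uu lam` and
`ll mu` is of dihedral type or has index of the upper triangular part `1 + |A|` with a diagonal
part of order `|A| - 1`. -/
theorem dichotomy2 [Finite K] (h2 : (2 : K) = 0) {lam mu : K} (hlam : lam ≠ 0) (hL : uu lam ∈ L)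
    (hmu : mu ≠ 0) (hM : ll mu ∈ L) :
    (Nat.card (AA L) = 2 ∧ Nat.card (RR L) = 1 ∧ ∃ x : ↥L, tor L x ∧
        Nat.card (Subgroup.normalizer ((cent x : Subgroup ↥L) : Set ↥L)) = 2 * Nat.card (cent x) ∧
        Nat.card L = 2 * Nat.card (cent x)) ∨
      (4 ≤ Nat.card (AA L) ∧ Nat.card (RR L) = Nat.card (AA L) - 1 ∧
        (SS L).index = 1 + Nat.card (AA L)) := by
  have := (setup2 h2 hlam hL hmu hM).main
  rwa [normalizer_cent_uu hlam hL] at this

end Cfsg.Agent.Lib.H5.DicksonTwo
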