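import Mathlib
import Cfsg.Agent.Lib.H5.DicksonTwo.SL2b
import Cfsg.Agent.Lib.H5.DicksonOdd
import Cfsg.Agent.Lib.H4.Dickson.SubfieldForm
import Cfsg.Agent.Lib.H12.CardSL

/-!
# The generic case in characteristic two: `L = SL₂(S)` for a subfield `S`
-/

set_option autoImplicit false
set_option linter.style.haveILetI false

namespace Cfsg.Agent.Lib.H5.DicksonTwo

open Matrix Cfsg.Agent.Lib.H12 Cfsg.Agent.Lib.H4.Dickson

variable {K : Type*} [Field K]

local notation "SL2" => Matrix.SpecialLinearGroup (Fin 2) K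
local notation "M2" => Matrix (Fin 2) (Fin 2) K

variable {L : Subgroup (Matrix.SpecialLinearGroup (Fin 2) K)}

/-- in the generic case with `ll 1 ∈ L`, also `uu 1 ∈ L` -/
theorem uu_one_mem [Finite K] (h2 : (2 : K) = 0) {lam : K} (hlam : lam ≠ 0) (hL : uu lam ∈ L)
    (h1 : ll 1 ∈ L) (hidx : (SS L).index = 1 + Nat.card (AA L)) : uu (1 : K) ∈ L := by
  have htr : (((⟨ll 1, h1⟩ : ↥L) : SL2) : M2).trace = 0 := by
    rw [trace_eq, ll_00, ll_11]; linear_combination h2
  obtain ⟨k, hk⟩ := unip_conj2 h2 hlam hL htr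
  obtain ⟨h10, -⟩ := (mem_cent_uu hlam hL).1 hk
  have hk11 : en L k 1 1 = 0 := by
    have e : en L (k * ⟨ll 1, h1⟩ * k⁻¹) 1 0 = en L k 1 1 ^ 2 := by
      rw [en_mul_10, en_mul_10, en_mul_11, en_inv_00, en_inv_10]
      simp only [en_def, ll_00, ll_01, ll_10, ll_11]
      ring
    rw [e] at h10
    exact (pow_eq_zero_iff two_ne_zero).1 h10
  have hk10 : en L k 1 0 ≠ 0 := by
    intro h
    have := en_det k
    rw [hk11, h] at this
    simp at this
  have hg00 : en L k⁻¹ 0 0 = 0 := by rw [en_inv_00, hk11]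
  have hg10 : en L k⁻¹ 1 0 ≠ 0 := by rw [en_inv_10]; exact neg_ne_zero.2 hk10
  rcases Cfsg.Agent.Lib.H5.DicksonOdd.exists_rep hidx h1 k⁻¹ with h | ⟨a, ha, h⟩
  · exact absurd ((mem_SS L).1 h) hg10
  · rw [mem_SS, en_mul_10, en_inv_10, en_inv_11, hg00, en_mul_00, en_mul_10] at h
    simp only [en_def, ll_00, ll_01, ll_10, ll_11, uu_00, uu_01, uu_10, uu_11] at h
    have h' : (1 + a) * ((k⁻¹ : ↥L) : SL2).1 1 0 = 0 := by linear_combination h
    rcases mul_eq_zero.1 h' with h'' | h''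
    · have : a = 1 := by
        have : a = -1 := by linear_combination h''
        rw [this, neg_eq h2]
      rw [← this]; exact ha
    · exact absurd h'' hg10

theorem card_identity (q : ℕ) (hq : 1 ≤ q) : (1 + q) * (q * (q - 1)) = q * (q ^ 2 - 1) := by
  obtain ⟨k, rfl⟩ : ∃ k, q = k + 1 := ⟨q - 1, by omega⟩
  have h1 : (k + 1) ^ 2 - 1 = k * (k + 2) := Nat.sub_eq_of_eq_add (by ring)
  rw [h1, Nat.add_sub_cancel]
  ring

/-- **the generic case in characteristic two**: `L` is `SL₂(S)` for a subfield `S` -/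
theorem generic_structure2 [Finite K] (h2 : (2 : K) = 0) {lam : K} (hlam : lam ≠ 0)
    (hL : uu lam ∈ L) (h1 : ll 1 ∈ L) (hk : Nat.card (RR L) = Nat.card (AA L) - 1)
    (hidx : (SS L).index = 1 + Nat.card (AA L)) :
    ∃ S : Subfield K, (∀ a : K, a ∈ S ↔ uu a ∈ L) ∧ (∀ b : K, b ∈ S ↔ ll b ∈ L) ∧
      L = (Matrix.SpecialLinearGroup.map (n := Fin 2) (S.subtype : ↥S →+* K)).range := by
  classical
  have hu1 : uu (1 : K) ∈ L := uu_one_mem h2 hlam hL h1 hidx
  -- the Weyl element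
  have hw : uu (1 : K) * ll 1 * uu 1 ∈ L := L.mul_mem (L.mul_mem hu1 h1) hu1
  obtain ⟨w, hwdef⟩ : ∃ w : SL2, w = uu (1 : K) * ll 1 * uu 1 := ⟨_, rfl⟩
  rw [← hwdef] at hw
  have w00 : (w : M2) 0 0 = 0 := by
    rw [hwdef]
    simp only [mul_apply_00, mul_apply_01, mul_apply_10, mul_apply_11, uu_00, uu_01, uu_10, uu_11,
      ll_00, ll_01, ll_10, ll_11]
    linear_combination h2
  have w01 : (w : M2) 0 1 = 1 := by
    rw [hwdef]
    simp only [mul_apply_00, mul_apply_01, mul_apply_10, mul_apply_11, uu_00, uu_01, uu_10, uu_11,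
      ll_00, ll_01, ll_10, ll_11]
    linear_combination h2
  have w10 : (w : M2) 1 0 = 1 := by
    rw [hwdef]
    simp only [mul_apply_00, mul_apply_01, mul_apply_10, mul_apply_11, uu_00, uu_01, uu_10, uu_11,
      ll_00, ll_01, ll_10, ll_11]
    ring
  have w11 : (w : M2) 1 1 = 0 := by
    rw [hwdef]
    simp only [mul_apply_00, mul_apply_01, mul_apply_10, mul_apply_11, uu_00, uu_01, uu_10, uu_11,
      ll_00, ll_01, ll_10, ll_11]
    linear_combination h2
  have hconj1 : ∀ a : K, w * uu a * w⁻¹ = ll a := by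
    intro a
    apply sl2_ext <;>
      simp only [mul_apply_00, mul_apply_01, mul_apply_10, mul_apply_11, inv_apply_00,
        inv_apply_01, inv_apply_10, inv_apply_11, uu_00, uu_01, uu_10, uu_11, ll_00, ll_01, ll_10,
        ll_11, w00, w01, w10, w11, neg_eq h2] <;> try ring
  have hconj2 : ∀ a : K, w * ll a * w⁻¹ = uu a := by
    intro a
    apply sl2_ext <;>
      simp only [mul_apply_00, mul_apply_01, mul_apply_10, mul_apply_11, inv_apply_00,
        inv_apply_01, inv_apply_10, inv_apply_11, uu_00, uu_01, uu_10, uu_11, ll_00, ll_01, ll_10,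
        ll_11, w00, w01, w10, w11, neg_eq h2] <;> try ring
  have hAB : ∀ a : K, uu a ∈ L ↔ ll a ∈ L := by
    intro a
    constructor
    · intro h
      rw [← hconj1]; exact L.mul_mem (L.mul_mem hw h) (L.inv_mem hw)
    · intro h
      rw [← hconj2]; exact L.mul_mem (L.mul_mem hw h) (L.inv_mem hw)
  -- the nonzero elements of `A` are the squares of the diagonal entries
  obtain ⟨T, hTdef⟩ : ∃ T : Set K, T = (fun s : Kˣ => (s : K)) '' ((chiSq L).range : Set Kˣ) :=
    ⟨_, rfl⟩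
  have hTsub : T ⊆ ((AA L : AddSubgroup K) : Set K) \ {0} := by
    rw [hTdef]
    rintro _ ⟨s, hs, rfl⟩
    refine ⟨?_, ?_⟩
    · have := chiSq_range_mul_mem hu1 hs
      rwa [mul_one] at this
    · rw [Set.mem_singleton_iff]
      exact s.ne_zero
  have hTcard : T.ncard = Nat.card (AA L) - 1 := by
    rw [hTdef, Set.ncard_image_of_injective _ Units.val_injective,
      ← Nat.card_coe_set_eq]
    show Nat.card (chiSq L).range = _
    rw [← card_RR_eq2 h2 hlam hL, hk]
  have hTeq : T = ((AA L : AddSubgroup K) : Set K) \ {0} := by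
    apply Set.eq_of_subset_of_ncard_le hTsub _ (Set.toFinite _)
    rw [hTcard, Set.ncard_sdiff_singleton_of_mem (AddSubgroup.zero_mem (AA L)),
      ← Nat.card_coe_set_eq]
    rfl
  have hAT : ∀ a : K, a ∈ AA L → a ≠ 0 → ∃ s : Kˣ, s ∈ (chiSq L).range ∧ (s : K) = a := by
    intro a ha ha0
    have : a ∈ T := by
      rw [hTeq]; exact ⟨ha, ha0⟩
    rw [hTdef] at this
    obtain ⟨s, hs, rfl⟩ := this
    exact ⟨s, hs, rfl⟩
  have hTA : ∀ s : Kˣ, s ∈ (chiSq L).range → (s : K) ∈ AA L := by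
    intro s hs
    have : (s : K) ∈ T := by rw [hTdef]; exact ⟨s, hs, rfl⟩
    exact (hTsub this).1
  have hmul : ∀ a b : K, a ∈ AA L → b ∈ AA L → a * b ∈ AA L := by
    intro a b ha hb
    by_cases ha0 : a = 0
    · rw [ha0, zero_mul]; exact (AA L).zero_mem
    by_cases hb0 : b = 0
    · rw [hb0, mul_zero]; exact (AA L).zero_mem
    obtain ⟨s, hs, rfl⟩ := hAT a ha ha0
    obtain ⟨s', hs', rfl⟩ := hAT b hb hb0
    have := hTA (s * s') ((chiSq L).range.mul_mem hs hs')
    rwa [Units.val_mul] at this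
  have hinv : ∀ a : K, a ∈ AA L → a⁻¹ ∈ AA L := by
    intro a ha
    by_cases ha0 : a = 0
    · rw [ha0, _root_.inv_zero]; exact (AA L).zero_mem
    obtain ⟨s, hs, rfl⟩ := hAT a ha ha0
    have := hTA s⁻¹ ((chiSq L).range.inv_mem hs)
    rwa [Units.val_inv_eq_inv_val] at this
  obtain ⟨S, hS⟩ : ∃ S : Subfield K, ∀ a : K, a ∈ S ↔ a ∈ AA L :=
    ⟨{ carrier := (AA L : Set K)
       mul_mem' := fun {a b} ha hb => hmul a b ha hb
       one_mem' := hu1
       add_mem' := fun {a b} ha hb => (AA L).add_mem ha hb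
       zero_mem' := (AA L).zero_mem
       neg_mem' := fun {a} ha => (AA L).neg_mem ha
       inv_mem' := fun a ha => hinv a ha }, fun a => Iff.rfl⟩
  have hSA : ∀ a : K, a ∈ S ↔ uu a ∈ L := fun a => (hS a).trans (mem_AA L)
  have hSB : ∀ b : K, b ∈ S ↔ ll b ∈ L := fun b => (hSA b).trans (hAB b)
  refine ⟨S, hSA, hSB, ?_⟩
  have hle := map_subfield_le S (fun a ha => (hSA a).1 ha) (fun b hb => (hSB b).1 hb)
  symm
  apply Subgroup.eq_of_le_of_card_ge hle
  have hcardA : Nat.card (AA L) = Nat.card S := by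
    apply Nat.card_congr
    exact Equiv.subtypeEquivRight (fun a => (hS a).symm)
  haveI : Fintype S := Fintype.ofFinite S
  have hinj : Function.Injective
      (Matrix.SpecialLinearGroup.map (n := Fin 2) (S.subtype : ↥S →+* K)) := by
    intro x y hxy
    apply Subtype.ext
    ext i j
    have := congrArg (fun z : SL2 => (z : M2) i j) hxy
    simp only [Matrix.SpecialLinearGroup.map_apply_coe, RingHom.mapMatrix_apply,
      Matrix.map_apply] at this
    exact this
  rw [card_generic hidx, hk, hcardA,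
    Nat.card_congr (MonoidHom.ofInjective hinj).symm.toEquiv, card_SL2,
    ← Nat.card_eq_fintype_card (α := S), card_identity _ Nat.card_pos]

end Cfsg.Agent.Lib.H5.DicksonTwo
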