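import Mathlib
import Cfsg.Agent.Lib.H5.DicksonTwo.SL2
import Cfsg.Agent.Lib.H12.SL2RegCard

/-!
# Tori of `SL₂(F)` in characteristic two
-/

set_option autoImplicit false
set_option linter.style.haveILetI false

namespace Cfsg.Agent.Lib.H5.DicksonTwo

open Matrix Cfsg.Agent.Lib.H12 Cfsg.Agent.Lib.H4.Dickson

variable {F : Type*} [Field F]

local notation "SL2" => Matrix.SpecialLinearGroup (Fin 2) F
local notation "M2" => Matrix (Fin 2) (Fin 2) F

theorem trace_sq_ne_of_ne (h2 : (2 : F) = 0) {x : SL2} (ht : (x : M2).trace ≠ 0) :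
    (x : M2).trace ^ 2 ≠ 4 := by
  have h4 : (4 : F) = 0 := by linear_combination 2 * h2
  rw [h4]
  exact pow_ne_zero 2 ht

theorem isSquare_all [Fintype F] (h2 : (2 : F) = 0) (a : F) : IsSquare a := by
  haveI := charP_two h2
  exact FiniteField.isSquare_of_char_two (ringChar.eq F 2) a

/-- the centralizer of a regular semisimple element in characteristic two -/
theorem regular_centralizer2 [Fintype F] (h2 : (2 : F) = 0) (x : SL2) (ht : (x : M2).trace ≠ 0) :
    IsCyclic (Subgroup.centralizer ({x} : Set SL2)) ∧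
    (Nat.card (Subgroup.centralizer ({x} : Set SL2)) = Fintype.card F - 1 ∨
      Nat.card (Subgroup.centralizer ({x} : Set SL2)) = Fintype.card F + 1) := by
  have hx : NonScalar (x : M2) := nonScalar_of_trace_sq_ne x (trace_sq_ne_of_ne h2 ht)
  obtain ⟨t, htdef⟩ : ∃ t : F, t = (x : M2).trace := ⟨_, rfl⟩
  by_cases hnr : NoRoot t
  · have := hnr.fact
    obtain ⟨c, hc⟩ := isConj_iff.mp (sl2_isConj_of_trace_of_allSquares (isSquare_all h2) x
      (sl2Comp t) hx (nonScalar_sl2Comp t) (by rw [trace_sl2Comp, htdef]))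
    let e := centralizerConjEquiv c x (sl2Comp t) hc
    have hcyc : IsCyclic (Subgroup.centralizer ({sl2Comp t} : Set SL2)) := by
      rw [centralizer_sl2Comp]
      exact isCyclic_torusT
    refine ⟨isCyclic_of_surjective e.symm e.symm.surjective, Or.inr ?_⟩
    rw [Nat.card_congr e.toEquiv, centralizer_sl2Comp]
    exact card_torusT
  · unfold NoRoot at hnr
    push Not at hnr
    obtain ⟨r, hr⟩ := hnr
    have hr0 : r ≠ 0 := by
      rintro rfl
      have : (1 : F) = 0 := by linear_combination hr
      exact one_ne_zero this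
    obtain ⟨d, hddef⟩ : ∃ d : SL2, d = hh (Units.mk0 r hr0) := ⟨_, rfl⟩
    have hd00 : (d : M2) 0 0 = r := by rw [hddef]; rfl
    have hd01 : (d : M2) 0 1 = 0 := by rw [hddef]; rfl
    have hd10 : (d : M2) 1 0 = 0 := by rw [hddef]; rfl
    have hd11 : (d : M2) 1 1 = r⁻¹ := by
      rw [hddef]
      show ((Units.mk0 r hr0)⁻¹ : Fˣ).val = r⁻¹
      rw [Units.val_inv_eq_inv_val, Units.val_mk0]
    have hdtr : (d : M2).trace = t := by
      rw [trace_eq, hd00, hd11]
      field_simp
      linear_combination hr
    have hda : (d : M2) 0 0 ^ 2 ≠ 1 := by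
      rw [hd00]
      intro h
      apply ht
      rw [← htdef]
      have : t * r = 0 := by linear_combination h - hr + h2
      exact (mul_eq_zero.1 this).resolve_right hr0
    have hdns : NonScalar (d : M2) := by
      apply nonScalar_of_trace_sq_ne
      rw [hdtr, htdef]
      exact trace_sq_ne_of_ne h2 ht
    obtain ⟨c, hc⟩ := isConj_iff.mp (sl2_isConj_of_trace_of_allSquares (isSquare_all h2) x d hx
      hdns (by rw [hdtr, htdef]))
    let e := centralizerConjEquiv c x d hc
    have hcyc := isCyclic_centralizer_diag d hd01 hd10 hda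
    refine ⟨isCyclic_of_surjective e.symm e.symm.surjective, Or.inl ?_⟩
    rw [Nat.card_congr e.toEquiv]
    exact Cfsg.Agent.S2428.card_centralizer d hd01 hd10 hda

/-- a regular semisimple element is conjugate to its inverse -/
theorem exists_inverting2 [Fintype F] (h2 : (2 : F) = 0) (x : SL2) (ht : (x : M2).trace ≠ 0) :
    ∃ c : SL2, c * x * c⁻¹ = x⁻¹ := by
  have hx : NonScalar (x : M2) := nonScalar_of_trace_sq_ne x (trace_sq_ne_of_ne h2 ht)
  have htinv : ((x⁻¹ : SL2) : M2).trace = (x : M2).trace := by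
    rw [trace_eq, trace_eq, inv_apply_00, inv_apply_11]; ring
  have hxi : NonScalar ((x⁻¹ : SL2) : M2) := by
    apply nonScalar_of_trace_sq_ne
    rw [htinv]
    exact trace_sq_ne_of_ne h2 ht
  exact isConj_iff.mp (sl2_isConj_of_trace_of_allSquares (isSquare_all h2) x x⁻¹ hx hxi htinv.symm)

/-- an element whose square commutes with a regular semisimple `x` either commutes with `x` or
is an involution -/
theorem commute_or_trace_zero {x s : SL2}
    (hs : (s * s) * x = x * (s * s)) : s * x = x * s ∨ (s : M2).trace = 0 := by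
  by_cases ht : (s : M2).trace = 0
  · exact Or.inr ht
  left
  have hcay := m2_cayley (s : M2) s.det_coe
  have hs' : ((s : M2) * (s : M2)) * (x : M2) = (x : M2) * ((s : M2) * (s : M2)) := by
    have := congrArg (fun z : SL2 => (z : M2)) hs
    simpa only [Matrix.SpecialLinearGroup.coe_mul] using this
  rw [hcay] at hs'
  have h3 : (s : M2).trace • ((s : M2) * (x : M2)) = (s : M2).trace • ((x : M2) * (s : M2)) := by
    have e1 : ((s : M2).trace • (s : M2) - 1) * (x : M2) =
        (s : M2).trace • ((s : M2) * (x : M2)) - (x : M2) := by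
      rw [Matrix.sub_mul, Matrix.smul_mul, Matrix.one_mul]
    have e2 : (x : M2) * ((s : M2).trace • (s : M2) - 1) =
        (s : M2).trace • ((x : M2) * (s : M2)) - (x : M2) := by
      rw [Matrix.mul_sub, Matrix.mul_smul, Matrix.mul_one]
    rw [e1, e2] at hs'
    exact sub_left_injective hs'
  apply Subtype.ext
  rw [Matrix.SpecialLinearGroup.coe_mul, Matrix.SpecialLinearGroup.coe_mul]
  have := congrArg (fun M : M2 => ((s : M2).trace)⁻¹ • M) h3
  simpa only [smul_smul, inv_mul_cancel₀ ht, one_smul] using this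

end Cfsg.Agent.Lib.H5.DicksonTwo
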