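import Mathlib
import Cfsg.Agent.Lib.H5.DicksonTwo.Torus
import Cfsg.Agent.Lib.H5.DicksonTwo.SL2b
import Cfsg.Agent.Lib.H22.DihQuatRecog

/-!
# The dihedral case in characteristic two
-/

set_option autoImplicit false
set_option linter.style.haveILetI false

namespace Cfsg.Agent.Lib.H5.DicksonTwo

open Matrix Cfsg.Agent.Lib.H12 Cfsg.Agent.Lib.H4.Dickson

variable {F : Type*} [Field F]

local notation "SL2" => Matrix.SpecialLinearGroup (Fin 2) F
local notation "M2" => Matrix (Fin 2) (Fin 2) F

variable {L : Subgroup (Matrix.SpecialLinearGroup (Fin 2) F)}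

/-- non-identity elements commuting with a regular semisimple element are regular semisimple -/
theorem tor_of_mem_cent (h2 : (2 : F) = 0) {x y : ↥L} (hx : tor L x) (hy : y ∈ cent x)
    (hy1 : y ≠ 1) : tor L y := by
  rw [tor_iff h2]
  intro ht
  apply hy1
  have hd : NonScalar ((x : SL2) : M2) := nonScalar_of_trace_sq_ne _ hx
  have hy' : (y : SL2) ∈ Subgroup.centralizer ({(x : SL2)} : Set SL2) := by
    rw [Subgroup.mem_centralizer_singleton_iff]
    exact mem_cent_coe.1 hy
  obtain ⟨α, β, hab⟩ := (mem_centralizer_iff_span hd _).mp hy'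
  have hT : 2 * α + β * ((x : SL2) : M2).trace = 0 := by
    rw [← trace_span, ← hab, ht]
  have hx0 : ((x : SL2) : M2).trace ≠ 0 := (tor_iff h2 x).1 hx
  have hβ : β = 0 := by
    have : β * ((x : SL2) : M2).trace = 0 := by linear_combination hT - α * h2
    exact (mul_eq_zero.1 this).resolve_right hx0
  have hD : α ^ 2 + α * β * ((x : SL2) : M2).trace + β ^ 2 = 1 := by
    rw [← det_span _ (x : SL2).det_coe, ← hab]
    exact (y : SL2).det_coe
  rw [hβ] at hD
  have hα : α = 1 := eq_one_of_sq h2 (by linear_combination hD)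
  apply Subtype.ext
  apply Subtype.ext
  rw [hab, hα, hβ]
  simp

/-- the map from the centralizer in `L` to the centralizer in `SL₂` -/
def centToCentralizer (x : ↥L) :
    cent x →* Subgroup.centralizer ({(x : SL2)} : Set SL2) where
  toFun g := ⟨((g : ↥L) : SL2), by
    rw [Subgroup.mem_centralizer_singleton_iff]
    exact mem_cent_coe.1 g.2⟩
  map_one' := rfl
  map_mul' _ _ := rfl

theorem centToCentralizer_injective (x : ↥L) : Function.Injective (centToCentralizer x) := by
  intro g h hgh
  apply Subtype.ext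
  apply Subtype.ext
  exact congrArg (fun z : Subgroup.centralizer ({(x : SL2)} : Set SL2) => (z : SL2)) hgh

theorem isCyclic_cent [Fintype F] (h2 : (2 : F) = 0) {x : ↥L} (hx : tor L x) :
    IsCyclic (cent x) := by
  haveI := (regular_centralizer2 h2 (x : SL2) ((tor_iff h2 x).1 hx)).1
  exact isCyclic_of_injective (centToCentralizer x) (centToCentralizer_injective x)

theorem card_cent_dvd [Fintype F] (h2 : (2 : F) = 0) {x : ↥L} (hx : tor L x) :
    Nat.card (cent x) ∣ Fintype.card F - 1 ∨ Nat.card (cent x) ∣ Fintype.card F + 1 := by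
  have hd := Subgroup.card_dvd_of_injective (centToCentralizer x) (centToCentralizer_injective x)
  rcases (regular_centralizer2 h2 (x : SL2) ((tor_iff h2 x).1 hx)).2 with h | h
  · left; rw [← h]; exact hd
  · right; rw [← h]; exact hd

/-- **the dihedral case** -/
theorem dihedral_structure [Fintype F] (h2 : (2 : F) = 0) (x : ↥L) (hx : tor L x)
    (hN : Nat.card (Subgroup.normalizer ((cent x : Subgroup ↥L) : Set ↥L)) = 2 * Nat.card (cent x))
    (hL : Nat.card L = 2 * Nat.card (cent x)) :
    Nonempty (L ≃* DihedralGroup (Nat.card (cent x))) ∧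
    (Nat.card (cent x) ∣ Fintype.card F - 1 ∨ Nat.card (cent x) ∣ Fintype.card F + 1) ∧
    L ≤ Subgroup.normalizer
      ((Subgroup.centralizer ({(x : SL2)} : Set SL2) : Subgroup SL2) : Set SL2) := by
  have hNtop : Subgroup.normalizer ((cent x : Subgroup ↥L) : Set ↥L) = ⊤ := by
    apply Subgroup.eq_top_of_card_eq
    rw [hN, hL]
  have hx1 : x ≠ 1 := (tor_not_mem_ZL hx) |> fun h => by
    intro h1
    apply h
    rw [h1]; exact Subgroup.one_mem _
  have hxZ : x ∉ (⊥ : Subgroup ↥L) := by rw [Subgroup.mem_bot]; exact hx1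
  have hcpos : 0 < Nat.card (cent x) := Nat.card_pos
  -- every element of `L` conjugates `x` to `x` or `x⁻¹`
  have hcases : ∀ (y : ↥L), tor L y → cent y = cent x → ∀ b : ↥L,
      b * y * b⁻¹ = y ∨ b * y * b⁻¹ = y⁻¹ := by
    intro y hy hyx b
    have hb : b ∈ Subgroup.normalizer ((cent y : Subgroup ↥L) : Set ↥L) := by
      rw [hyx, hNtop]; exact Subgroup.mem_top b
    have h1 : b * y * b⁻¹ ∈ cent y :=
      (Subgroup.mem_normalizer_iff.1 hb y).1 (self_mem_cent y)
    have h2' : (b : SL2) * (y : SL2) * (b : SL2)⁻¹ ∈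
        Subgroup.centralizer ({(y : SL2)} : Set SL2) := by
      rw [Subgroup.mem_centralizer_singleton_iff]
      exact mem_cent_coe.1 h1
    rcases conj_cases2 h2 hy h2' with h3 | h3
    · left; exact Subtype.ext h3
    · right; exact Subtype.ext h3
  -- an element outside the torus
  obtain ⟨s, hs⟩ : ∃ s : ↥L, s ∉ cent x := by
    by_contra h
    push Not at h
    have : cent x = ⊤ := by
      rw [eq_top_iff]
      intro g _
      exact h g
    rw [this, Subgroup.card_top] at hL
    have : 0 < Nat.card L := Nat.card_pos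
    omega
  have hinv : ∀ y ∈ cent x, s * y * s⁻¹ = y⁻¹ := by
    intro y hy
    by_cases hy1 : y = 1
    · rw [hy1]; group
    have hytor := tor_of_mem_cent h2 hx hy hy1
    have hyZ : y ∉ (⊥ : Subgroup ↥L) := by rw [Subgroup.mem_bot]; exact hy1
    have hcy : cent y = cent x := (caz2 h2).cent_eq_of_mem hxZ hyZ hy
    rcases hcases y hytor hcy s with h | h
    · exfalso
      apply hs
      rw [← hcy, mem_cent]
      calc s * y = (s * y * s⁻¹) * s := by group
        _ = y * s := by rw [h]
    · exact h
  have hsx : s * x * s⁻¹ = x⁻¹ := hinv x (self_mem_cent x)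
  have hss : s * s = 1 := by
    have h1 : (s * s) * x = x * (s * s) := by
      have : s * s * x * (s * s)⁻¹ = x := by
        calc s * s * x * (s * s)⁻¹ = s * (s * x * s⁻¹) * s⁻¹ := by group
          _ = s * x⁻¹ * s⁻¹ := by rw [hsx]
          _ = (s * x * s⁻¹)⁻¹ := by group
          _ = x := by rw [hsx, inv_inv]
      calc s * s * x = (s * s * x * (s * s)⁻¹) * (s * s) := by group
        _ = x * (s * s) := by rw [this]
    have h1' : ((s : SL2) * (s : SL2)) * (x : SL2) = (x : SL2) * ((s : SL2) * (s : SL2)) :=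
      congrArg Subtype.val h1
    rcases commute_or_trace_zero h1' with h | h
    · exfalso
      apply hs
      rw [mem_cent]
      exact Subtype.ext h
    · apply Subtype.ext
      exact mul_self_of_trace h2 _ h
  haveI := isCyclic_cent h2 hx
  obtain ⟨r, hr⟩ := IsCyclic.exists_generator (α := cent x)
  have hr_ord : orderOf (r : ↥L) = Nat.card (cent x) := by
    rw [Subgroup.orderOf_coe, orderOf_eq_card_of_forall_mem_zpowers hr]
  haveI : NeZero (Nat.card (cent x)) := ⟨hcpos.ne'⟩
  refine ⟨?_, card_cent_dvd h2 hx, ?_⟩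
  · apply Cfsg.Agent.Lib.H22.dihedral_equiv_of_gens (Nat.card (cent x)) (r : ↥L) s
    · rw [← hr_ord]; exact pow_orderOf_eq_one _
    · exact hss
    · exact hinv _ r.2
    · have hT : cent x ≤ Subgroup.closure ({(r : ↥L), s} : Set ↥L) := by
        intro y hy
        obtain ⟨n, hn⟩ := Subgroup.mem_zpowers_iff.mp (hr ⟨y, hy⟩)
        have : y = (r : ↥L) ^ n := by
          have := congrArg Subtype.val hn
          simpa using this.symm
        rw [this]
        exact Subgroup.zpow_mem _ (Subgroup.subset_closure (by simp)) n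
      have hsC : s ∈ Subgroup.closure ({(r : ↥L), s} : Set ↥L) :=
        Subgroup.subset_closure (by simp)
      have hlt : cent x < Subgroup.closure ({(r : ↥L), s} : Set ↥L) :=
        lt_of_le_of_ne hT (fun h => hs (h ▸ hsC))
      have h1 : Nat.card (cent x) ∣ Nat.card (Subgroup.closure ({(r : ↥L), s} : Set ↥L)) :=
        Subgroup.card_dvd_of_le hT
      have h3 : Nat.card (cent x) < Nat.card (Subgroup.closure ({(r : ↥L), s} : Set ↥L)) := by
        have hlt' : ((cent x : Subgroup ↥L) : Set ↥L) ⊂
            (Subgroup.closure ({(r : ↥L), s} : Set ↥L) : Set ↥L) := hlt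
        have := Set.ncard_lt_ncard hlt' (Set.toFinite _)
        rwa [← Nat.card_coe_set_eq, ← Nat.card_coe_set_eq] at this
      apply Subgroup.eq_top_of_le_card
      rw [hL]
      obtain ⟨a, ha⟩ := h1
      rw [ha] at h3 ⊢
      have ha2 : 2 ≤ a := by
        by_contra h
        push Not at h
        interval_cases a <;> omega
      nlinarith
    · exact hL
  · intro g hg
    have hgx := hcases x hx rfl ⟨g, hg⟩
    rw [Subgroup.mem_normalizer_iff]
    have key : ∀ z : SL2, z ∈ Subgroup.centralizer ({(x : SL2)} : Set SL2) →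
        g * z * g⁻¹ ∈ Subgroup.centralizer ({(x : SL2)} : Set SL2) := by
      intro z hz
      rw [Subgroup.mem_centralizer_singleton_iff] at hz ⊢
      rcases hgx with h | h
      · have h' : g * (x : SL2) * g⁻¹ = (x : SL2) := congrArg Subtype.val h
        have h'' : g * (x : SL2) = (x : SL2) * g := by
          calc g * (x : SL2) = (g * (x : SL2) * g⁻¹) * g := by group
            _ = (x : SL2) * g := by rw [h']
        have h''' : g⁻¹ * (x : SL2) = (x : SL2) * g⁻¹ := by
          calc g⁻¹ * (x : SL2) = g⁻¹ * ((x : SL2) * g) * g⁻¹ := by group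
            _ = g⁻¹ * (g * (x : SL2)) * g⁻¹ := by rw [h'']
            _ = (x : SL2) * g⁻¹ := by group
        calc g * z * g⁻¹ * (x : SL2) = g * z * (g⁻¹ * (x : SL2)) := by group
          _ = g * z * ((x : SL2) * g⁻¹) := by rw [h''']
          _ = g * (z * (x : SL2)) * g⁻¹ := by group
          _ = g * ((x : SL2) * z) * g⁻¹ := by rw [hz]
          _ = (g * (x : SL2)) * z * g⁻¹ := by group
          _ = ((x : SL2) * g) * z * g⁻¹ := by rw [h'']
          _ = (x : SL2) * (g * z * g⁻¹) := by group
      · have h' : g * (x : SL2) * g⁻¹ = (x : SL2)⁻¹ := congrArg Subtype.val h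
        -- `z` commutes with `x⁻¹ = g x g⁻¹`, so `g⁻¹`-conjugate... we show `g z g⁻¹` commutes
        -- with `g x g⁻¹ = x⁻¹`, hence with `x`
        have hc : g * z * g⁻¹ * (x : SL2)⁻¹ = (x : SL2)⁻¹ * (g * z * g⁻¹) := by
          rw [← h']
          calc g * z * g⁻¹ * (g * (x : SL2) * g⁻¹) = g * (z * (x : SL2)) * g⁻¹ := by group
            _ = g * ((x : SL2) * z) * g⁻¹ := by rw [hz]
            _ = g * (x : SL2) * g⁻¹ * (g * z * g⁻¹) := by group
        calc g * z * g⁻¹ * (x : SL2)
            = (x : SL2) * ((x : SL2)⁻¹ * (g * z * g⁻¹)) * (x : SL2) := by group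
          _ = (x : SL2) * ((g * z * g⁻¹) * (x : SL2)⁻¹) * (x : SL2) := by rw [hc]
          _ = (x : SL2) * (g * z * g⁻¹) := by group
    intro z
    constructor
    · exact key z
    · intro hz
      -- apply the same to `g⁻¹`
      have hg' : g⁻¹ ∈ L := L.inv_mem hg
      have hgx' := hcases x hx rfl ⟨g⁻¹, hg'⟩
      have key' : ∀ z : SL2, z ∈ Subgroup.centralizer ({(x : SL2)} : Set SL2) →
          g⁻¹ * z * g ∈ Subgroup.centralizer ({(x : SL2)} : Set SL2) := by
        intro z hz
        rw [Subgroup.mem_centralizer_singleton_iff] at hz ⊢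
        have hconj : g⁻¹ * (x : SL2) * g = (x : SL2) ∨ g⁻¹ * (x : SL2) * g = (x : SL2)⁻¹ := by
          rcases hgx' with h | h
          · left
            have := congrArg Subtype.val h
            simpa using this
          · right
            have := congrArg Subtype.val h
            simpa using this
        rcases hconj with h' | h'
        · have h'' : g⁻¹ * (x : SL2) = (x : SL2) * g⁻¹ := by
            calc g⁻¹ * (x : SL2) = (g⁻¹ * (x : SL2) * g) * g⁻¹ := by group
              _ = (x : SL2) * g⁻¹ := by rw [h']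
          have h''' : g * (x : SL2) = (x : SL2) * g := by
            calc g * (x : SL2) = g * ((x : SL2) * g⁻¹) * g := by group
              _ = g * (g⁻¹ * (x : SL2)) * g := by rw [h'']
              _ = (x : SL2) * g := by group
          calc g⁻¹ * z * g * (x : SL2) = g⁻¹ * z * (g * (x : SL2)) := by group
            _ = g⁻¹ * z * ((x : SL2) * g) := by rw [h''']
            _ = g⁻¹ * (z * (x : SL2)) * g := by group
            _ = g⁻¹ * ((x : SL2) * z) * g := by rw [hz]
            _ = (g⁻¹ * (x : SL2)) * z * g := by group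
            _ = ((x : SL2) * g⁻¹) * z * g := by rw [h'']
            _ = (x : SL2) * (g⁻¹ * z * g) := by group
        · have hc : g⁻¹ * z * g * (x : SL2)⁻¹ = (x : SL2)⁻¹ * (g⁻¹ * z * g) := by
            rw [← h']
            calc g⁻¹ * z * g * (g⁻¹ * (x : SL2) * g) = g⁻¹ * (z * (x : SL2)) * g := by group
              _ = g⁻¹ * ((x : SL2) * z) * g := by rw [hz]
              _ = g⁻¹ * (x : SL2) * g * (g⁻¹ * z * g) := by group
          calc g⁻¹ * z * g * (x : SL2)
              = (x : SL2) * ((x : SL2)⁻¹ * (g⁻¹ * z * g)) * (x : SL2) := by group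
            _ = (x : SL2) * ((g⁻¹ * z * g) * (x : SL2)⁻¹) * (x : SL2) := by rw [hc]
            _ = (x : SL2) * (g⁻¹ * z * g) := by group
      have := key' _ hz
      have e : g⁻¹ * (g * z * g⁻¹) * g = z := by group
      rwa [e] at this

end Cfsg.Agent.Lib.H5.DicksonTwo
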