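import Mathlib
import Cfsg.Agent.Lib.H5.DicksonTwo.Dihedral
import Cfsg.Agent.Lib.H5.TorusPartId
import Cfsg.Agent.Lib.H5.PSL2PrimeMax

/-!
# Subgroups of odd order of `SL₂(F)`, characteristic two, are cyclic
-/

set_option autoImplicit false
set_option linter.style.haveILetI false

namespace Cfsg.Agent.Lib.H5.DicksonTwo

open Matrix Cfsg.Agent.Lib.H12 Cfsg.Agent.Lib.H4.Dickson

variable {F : Type*} [Field F]

local notation "SL2" => Matrix.SpecialLinearGroup (Fin 2) F
local notation "M2" => Matrix (Fin 2) (Fin 2) F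

variable {L : Subgroup (Matrix.SpecialLinearGroup (Fin 2) F)}

/-- in a subgroup of odd order all non-identity elements are regular semisimple -/
theorem tor_of_odd [Finite L] (h2 : (2 : F) = 0) (hodd : Odd (Nat.card L)) {x : ↥L} (hx : x ≠ 1) :
    tor L x := by
  rw [tor_iff h2]
  intro ht
  apply hx
  have hxx : x * x = 1 := Subtype.ext (mul_self_of_trace h2 _ ht)
  have h1 : orderOf x ∣ 2 := orderOf_dvd_of_pow_eq_one (by rw [pow_two]; exact hxx)
  have h3 : orderOf x ∣ Nat.card L := orderOf_dvd_natCard x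
  have h4 : orderOf x = 1 := by
    rcases (Nat.dvd_prime Nat.prime_two).1 h1 with h | h
    · exact h
    · exfalso
      rw [h] at h3
      obtain ⟨k, hk⟩ := hodd
      omega
  exact orderOf_eq_one_iff.1 h4

/-- the torus partition of a subgroup of odd order -/
noncomputable def torusPartition2 [Fintype F] (h2 : (2 : F) = 0) (hodd : Odd (Nat.card L)) :
    TP.TorusPartition ↥L where
  T := fun x => cent x
  mem := fun x _ => self_mem_cent x
  eq_of_mem := fun x y hx hy hyx => by
    have hxZ : x ∉ (⊥ : Subgroup ↥L) := by rw [Subgroup.mem_bot]; exact hx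
    have hyZ : y ∉ (⊥ : Subgroup ↥L) := by rw [Subgroup.mem_bot]; exact hy
    exact (caz2 h2).cent_eq_of_mem hxZ hyZ hyx
  conj := fun x g _ => by
    ext y
    rw [Subgroup.mem_map]
    constructor
    · intro hy
      refine ⟨g⁻¹ * y * g, ?_, ?_⟩
      · have := (conj_mem_cent (g := g * x * g⁻¹) (x := y) g⁻¹).2 hy
        have e : g⁻¹ * (g * x * g⁻¹) * g⁻¹⁻¹ = x := by group
        rw [e] at this
        have e2 : g⁻¹ * y * g⁻¹⁻¹ = g⁻¹ * y * g := by group
        rwa [e2] at this
      · show g * (g⁻¹ * y * g) * g⁻¹ = y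
        group
    · rintro ⟨z, hz, rfl⟩
      show g * z * g⁻¹ ∈ cent (g * x * g⁻¹)
      exact (conj_mem_cent g).2 hz
  cyclic := fun x hx => isCyclic_cent h2 (tor_of_odd h2 hodd hx)
  inv := fun x g hx hg hgT => by
    exfalso
    have hxt := tor_of_odd h2 hodd hx
    have h1 : g * x * g⁻¹ ∈ cent x :=
      (Subgroup.mem_normalizer_iff.1 hg x).1 (self_mem_cent x)
    have h2' : (g : SL2) * (x : SL2) * (g : SL2)⁻¹ ∈
        Subgroup.centralizer ({(x : SL2)} : Set SL2) := by
      rw [Subgroup.mem_centralizer_singleton_iff]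
      exact mem_cent_coe.1 h1
    rcases conj_cases2 h2 hxt h2' with h3 | h3
    · apply hgT
      rw [mem_cent]
      have h3' : g * x * g⁻¹ = x := Subtype.ext h3
      calc g * x = (g * x * g⁻¹) * g := by group
        _ = x * g := by rw [h3']
    · have hsx : g * x * g⁻¹ = x⁻¹ := Subtype.ext h3
      have h4 : (g * g) * x = x * (g * g) := by
        have : g * g * x * (g * g)⁻¹ = x := by
          calc g * g * x * (g * g)⁻¹ = g * (g * x * g⁻¹) * g⁻¹ := by group
            _ = g * x⁻¹ * g⁻¹ := by rw [hsx]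
            _ = (g * x * g⁻¹)⁻¹ := by group
            _ = x := by rw [hsx, inv_inv]
        calc g * g * x = (g * g * x * (g * g)⁻¹) * (g * g) := by group
          _ = x * (g * g) := by rw [this]
      have h4' : ((g : SL2) * (g : SL2)) * (x : SL2) = (x : SL2) * ((g : SL2) * (g : SL2)) :=
        congrArg Subtype.val h4
      rcases commute_or_trace_zero h4' with h | h
      · apply hgT
        rw [mem_cent]
        exact Subtype.ext h
      · have hg1 : g = 1 := by
          by_contra hne
          exact (tor_iff h2 g).1 (tor_of_odd h2 hodd hne) h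
        apply hgT
        rw [hg1]; exact Subgroup.one_mem _
  idx := fun x g g' hx hg hgT _ _ => by
    exfalso
    have hxt := tor_of_odd h2 hodd hx
    have h1 : g * x * g⁻¹ ∈ cent x :=
      (Subgroup.mem_normalizer_iff.1 hg x).1 (self_mem_cent x)
    have h2' : (g : SL2) * (x : SL2) * (g : SL2)⁻¹ ∈
        Subgroup.centralizer ({(x : SL2)} : Set SL2) := by
      rw [Subgroup.mem_centralizer_singleton_iff]
      exact mem_cent_coe.1 h1
    rcases conj_cases2 h2 hxt h2' with h3 | h3
    · apply hgT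
      rw [mem_cent]
      have h3' : g * x * g⁻¹ = x := Subtype.ext h3
      calc g * x = (g * x * g⁻¹) * g := by group
        _ = x * g := by rw [h3']
    · have hsx : g * x * g⁻¹ = x⁻¹ := Subtype.ext h3
      have h4 : (g * g) * x = x * (g * g) := by
        have : g * g * x * (g * g)⁻¹ = x := by
          calc g * g * x * (g * g)⁻¹ = g * (g * x * g⁻¹) * g⁻¹ := by group
            _ = g * x⁻¹ * g⁻¹ := by rw [hsx]
            _ = (g * x * g⁻¹)⁻¹ := by group
            _ = x := by rw [hsx, inv_inv]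
        calc g * g * x = (g * g * x * (g * g)⁻¹) * (g * g) := by group
          _ = x * (g * g) := by rw [this]
      have h4' : ((g : SL2) * (g : SL2)) * (x : SL2) = (x : SL2) * ((g : SL2) * (g : SL2)) :=
        congrArg Subtype.val h4
      rcases commute_or_trace_zero h4' with h | h
      · apply hgT
        rw [mem_cent]
        exact Subtype.ext h
      · have hg1 : g = 1 := by
          by_contra hne
          exact (tor_iff h2 g).1 (tor_of_odd h2 hodd hne) h
        apply hgT
        rw [hg1]; exact Subgroup.one_mem _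

theorem torusPartition2_T [Fintype F] (h2 : (2 : F) = 0) (hodd : Odd (Nat.card L)) (x : ↥L) :
    (torusPartition2 h2 hodd).T x = cent x := rfl

/-- **subgroups of odd order of `SL₂(F)`, characteristic two, are cyclic of order dividing
`q - 1` or `q + 1`** -/
theorem cyclic_of_odd [Fintype F] (h2 : (2 : F) = 0) (hodd : Odd (Nat.card L)) :
    IsCyclic L ∧ (Nat.card L ∣ Fintype.card F - 1 ∨ Nat.card L ∣ Fintype.card F + 1) ∧
      (Nat.card L = 1 ∨ ∃ x : ↥L, tor L x ∧ cent x = ⊤) := by
  have hnot : ∀ n : ℕ, Even n → Nat.card L ≠ n := by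
    intro n hn h
    rw [h] at hodd
    exact (Nat.not_even_iff_odd.2 hodd) hn
  rcases TP.classify (torusPartition2 h2 hodd) with ⟨hc, hs | ⟨x, hx, hT⟩⟩ | ⟨x, hx, ⟨e⟩⟩ |
    ⟨⟨e⟩⟩ | ⟨⟨e⟩⟩ | ⟨⟨e⟩⟩
  · have : Nat.card L = 1 := Nat.card_eq_one_iff_unique.mpr ⟨hs, ⟨1⟩⟩
    refine ⟨hc, Or.inl ?_, Or.inl this⟩
    rw [this]; exact one_dvd _
  · rw [torusPartition2_T] at hT
    have hxt := tor_of_odd h2 hodd hx
    refine ⟨hc, ?_, Or.inr ⟨x, hxt, hT⟩⟩
    have := card_cent_dvd h2 hxt
    rwa [hT, Subgroup.card_top] at this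
  · exfalso
    have h1 : Nat.card L = 2 * Nat.card ((torusPartition2 h2 hodd).T x) := by
      rw [Nat.card_congr e.toEquiv, DihedralGroup.nat_card]
    exact hnot _ ⟨Nat.card ((torusPartition2 h2 hodd).T x), by ring⟩ h1
  · exfalso
    have h1 : Nat.card L = 12 := by
      rw [Nat.card_congr e.toEquiv, PSL2PrimeMax.card_alt_four]
    exact hnot 12 (by decide) h1
  · exfalso
    have h1 : Nat.card L = 24 := by
      rw [Nat.card_congr e.toEquiv, PSL2PrimeMax.card_perm_four]
    exact hnot 24 (by decide) h1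
  · exfalso
    have h1 : Nat.card L = 60 := by
      rw [Nat.card_congr e.toEquiv, PSL2PrimeMax.card_alt_five]
    exact hnot 60 (by decide) h1

end Cfsg.Agent.Lib.H5.DicksonTwo
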