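import Mathlib
import Cfsg.Agent.Lib.H5.DicksonTwo.OddOrder
import Cfsg.Agent.Lib.H5.DicksonTwo.Generic
import Cfsg.Agent.Lib.H5.DicksonOddGen

/-!
# Dickson's theorem in characteristic two: subgroups of `SL₂(2ⁿ)`
-/

set_option autoImplicit false
set_option linter.style.haveILetI false

namespace Cfsg.Agent.Lib.H5.DicksonTwo

open Matrix Cfsg.Agent.Lib.H12 Cfsg.Agent.Lib.H4.Dickson

section abstract

variable {G G' : Type*} [Group G] [Group G']

theorem cent_map_equiv (e : G ≃* G') (x : G) :
    (cent x).map e.toMonoidHom = cent (e x) := by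
  ext y
  rw [Subgroup.mem_map, mem_cent]
  constructor
  · rintro ⟨z, hz, rfl⟩
    rw [mem_cent] at hz
    show e z * e x = e x * e z
    rw [← map_mul, ← map_mul, hz]
  · intro hy
    refine ⟨e.symm y, ?_, by simp⟩
    rw [mem_cent]
    apply e.injective
    rw [map_mul, map_mul, e.apply_symm_apply]
    exact hy

theorem card_cent_equiv (e : G ≃* G') (x : G) : Nat.card (cent (e x)) = Nat.card (cent x) := by
  rw [← cent_map_equiv e x]
  exact (Nat.card_congr ((cent x).equivMapOfInjective e.toMonoidHom e.injective).toEquiv).symm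

theorem card_normalizer_cent_equiv (e : G ≃* G') (x : G) :
    Nat.card (Subgroup.normalizer ((cent (e x) : Subgroup G') : Set G')) =
      Nat.card (Subgroup.normalizer ((cent x : Subgroup G) : Set G)) := by
  rw [← cent_map_equiv e x, ← Subgroup.map_equiv_normalizer_eq]
  exact (Nat.card_congr ((Subgroup.normalizer ((cent x : Subgroup G) : Set G)).equivMapOfInjective
    e.toMonoidHom e.injective).toEquiv).symm

end abstract

variable {F : Type*} [Field F]

local notation "SL2" => Matrix.SpecialLinearGroup (Fin 2) F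
local notation "M2" => Matrix (Fin 2) (Fin 2) F

theorem tor_iff_sq (h2 : (2 : F) = 0) {L : Subgroup SL2} (x : ↥L) : tor L x ↔ x * x ≠ 1 := by
  constructor
  · intro hx hxx
    have ht := (tor_iff h2 x).1 hx
    have hxx' : ((x : SL2) : M2) * ((x : SL2) : M2) = 1 := by
      have := congrArg (fun z : ↥L => ((z : SL2) : M2)) hxx
      simpa using this
    rw [m2_cayley _ (x : SL2).det_coe] at hxx'
    have h3 : ((x : SL2) : M2).trace • ((x : SL2) : M2) = 0 := by
      have h4 : ((x : SL2) : M2).trace • ((x : SL2) : M2) = 1 + 1 := eq_add_of_sub_eq hxx'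
      rw [h4]
      ext i j
      fin_cases i <;> fin_cases j <;> simp <;> linear_combination h2
    have h5 : ((x : SL2) : M2) = 0 := by
      have := congrArg (fun M : M2 => (((x : SL2) : M2).trace)⁻¹ • M) h3
      simpa only [smul_smul, inv_mul_cancel₀ ht, one_smul, smul_zero] using this
    have hdet := (x : SL2).det_coe
    rw [h5, Matrix.det_zero] at hdet
    exact zero_ne_one hdet
  · intro hxx
    by_contra hx
    rw [tor_iff h2, not_not] at hx
    exact hxx (Subtype.ext (mul_self_of_trace h2 _ hx))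

variable [Fintype F]

/-- **Dickson's theorem in characteristic two.** A subgroup `L` of `SL₂(F)` has odd order and is
cyclic, or has a unique Sylow `2`-subgroup, or is dihedral of order `2 f` with `f` dividing
`q - 1` or `q + 1`, or is conjugate (by an automorphism) to `SL₂(S)` for a subfield `S` with at
least four elements. -/
theorem classify2 (h2 : (2 : F) = 0) (L : Subgroup SL2) :
    (Odd (Nat.card L) ∧ IsCyclic L ∧
      (Nat.card L ∣ Fintype.card F - 1 ∨ Nat.card L ∣ Fintype.card F + 1) ∧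
      (Nat.card L = 1 ∨ ∃ x : ↥L, tor L x ∧ cent x = ⊤)) ∨
    (Even (Nat.card L) ∧ Nat.card (Sylow 2 L) = 1) ∨
    (∃ x : ↥L, tor L x ∧ Nat.card L = 2 * Nat.card (cent x) ∧
      Nonempty (L ≃* DihedralGroup (Nat.card (cent x))) ∧
      (Nat.card (cent x) ∣ Fintype.card F - 1 ∨ Nat.card (cent x) ∣ Fintype.card F + 1) ∧
      L ≤ Subgroup.normalizer
        ((Subgroup.centralizer ({(x : SL2)} : Set SL2) : Subgroup SL2) : Set SL2)) ∨
    (∃ (Θ : SL2 ≃* SL2) (S : Subfield F), 4 ≤ Nat.card S ∧
      L.map Θ.toMonoidHom =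
        (Matrix.SpecialLinearGroup.map (n := Fin 2) (S.subtype : ↥S →+* F)).range) := by
  haveI : Fact (Nat.Prime 2) := ⟨Nat.prime_two⟩
  haveI := charP_two h2
  rcases Nat.even_or_odd (Nat.card L) with heven | hodd
  · have hpos : 0 < Nat.card (Sylow 2 L) := Nat.card_pos
    rcases Nat.lt_or_ge 1 (Nat.card (Sylow 2 L)) with h1 | h1
    · right; right
      obtain ⟨x, y, v, w, hx, hy, hx1, hy1, hxv, hyw, hδ⟩ :=
        Cfsg.Agent.Lib.H1.DicksonBridge.exists_unipotent_pair (p := 2) L h1
      obtain ⟨Θ, lam, hlam, hΘx, hΘy⟩ :=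
        Cfsg.Agent.Lib.H1.DicksonBridge.exists_normal_form x y v w hx1 hy1 hxv hyw hδ
      rw [DicksonOddGen.ll_eq] at hΘx
      rw [DicksonOddGen.uu_eq] at hΘy
      obtain ⟨L', hL'⟩ : ∃ L' : Subgroup SL2, L' = L.map Θ.toMonoidHom := ⟨_, rfl⟩
      have hl1 : ll (1 : F) ∈ L' := by
        rw [hL', ← hΘx]; exact Subgroup.mem_map_of_mem _ hx
      have hul : uu lam ∈ L' := by
        rw [hL', ← hΘy]; exact Subgroup.mem_map_of_mem _ hy
      rcases dichotomy2 h2 hlam hul one_ne_zero hl1 with ⟨-, -, x', hx', hN', hc'⟩ |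
        ⟨h4, hk, hidx⟩
      · left
        -- transport to `L`
        obtain ⟨e, he⟩ : ∃ e : ↥L ≃* ↥L', ∀ z : ↥L, ((e z : ↥L') : SL2) = Θ (z : SL2) := by
          subst hL'
          exact ⟨L.equivMapOfInjective Θ.toMonoidHom Θ.injective, fun z => rfl⟩
        obtain ⟨x₀, hx₀⟩ : ∃ x₀ : ↥L, e x₀ = x' := ⟨e.symm x', e.apply_symm_apply x'⟩
        have hx₀t : tor L x₀ := by
          rw [tor_iff_sq h2]
          intro h
          apply (tor_iff_sq h2 x').1 hx'
          rw [← hx₀, ← map_mul, h, map_one]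
        have hc₀ : Nat.card (cent x₀) = Nat.card (cent x') := by
          rw [← hx₀, card_cent_equiv]
        have hN₀ : Nat.card (Subgroup.normalizer ((cent x₀ : Subgroup ↥L) : Set ↥L)) =
            2 * Nat.card (cent x₀) := by
          rw [hc₀, ← hN', ← hx₀, card_normalizer_cent_equiv]
        have hL₀ : Nat.card L = 2 * Nat.card (cent x₀) := by
          rw [hc₀, ← hc', Nat.card_congr e.toEquiv]
        obtain ⟨hD, hdvd, hle⟩ := dihedral_structure h2 x₀ hx₀t hN₀ hL₀
        exact ⟨x₀, hx₀t, hL₀, hD, hdvd, hle⟩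
      · right
        obtain ⟨S, hSA, -, hLS⟩ := generic_structure2 h2 hlam hul hl1 hk hidx
        refine ⟨Θ, S, ?_, ?_⟩
        · have hcardA : Nat.card (AA L') = Nat.card S := by
            apply Nat.card_congr
            exact Equiv.subtypeEquivRight (fun a => ((hSA a).trans (mem_AA L').symm).symm)
          rw [← hcardA]; exact h4
        · rw [← hL', hLS]
    · right; left
      exact ⟨heven, by omega⟩
  · left
    obtain ⟨h1, h3, h4⟩ := cyclic_of_odd h2 hodd
    exact ⟨hodd, h1, h3, h4⟩

end Cfsg.Agent.Lib.H5.DicksonTwo
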